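import Cfsg.Agent.Lib.StdCo0.Frames
import Cfsg.Agent.Lib.CoOne.OctadCentral
import Cfsg.Agent.S5593
import Cfsg.Agent.S0397
import Cfsg.Prelude.Def_Spor_Mathieu

/-!
The involutions of the automorphism group of the rank-24 lattice: each non-central one is conjugate
to the sign change on an octad, on a dodecad, or on the complement of an octad.
-/

set_option autoImplicit false
set_option maxRecDepth 20000

namespace Cfsg.Lib.StdCo0

open Cfsg Cfsg.Lib.Concrete Cfsg.Lib.CoOne
open Cfsg.Spor (squareDodecad)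
open scoped Pointwise symmDiff

/-- The sign change on a code word. -/
noncomputable def sgn (c : Finset GolayPt) (hc : c ∈ codeSets) : Co0 := monoCo0 1 (one_mem _) c hc

theorem sgn_congr {a b : Finset GolayPt} (h : a = b) (ha : a ∈ codeSets) (hb : b ∈ codeSets) :
    sgn a ha = sgn b hb := by subst h; rfl

theorem mono_eq {g : Co0} {σ : Equiv.Perm GolayPt} (hσ : σ ∈ M24) {c : Finset GolayPt} (hc : c ∈ codeSets)
    (h : ∀ v : leechLattice, ((g • v : leechLattice) : GolayPt → ℤ) = signedPerm σ c v) :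
    g = monoCo0 σ hσ c hc :=
  co0_ext fun i => Subtype.ext (h (e8 i))

theorem mono_prod {σ τ : Equiv.Perm GolayPt} (hσ : σ ∈ M24) (hτ : τ ∈ M24) {c d : Finset GolayPt}
    (hc : c ∈ codeSets) (hd : d ∈ codeSets) (h : c ∆ (σ • d) ∈ codeSets) :
    monoCo0 σ hσ c hc * monoCo0 τ hτ d hd = monoCo0 (σ * τ) (mul_mem hσ hτ) (c ∆ (σ • d)) h :=
  co0_ext fun i => Subtype.ext (funext fun p => by
    rw [mul_smul, monoCo0_smul, monoCo0_smul, monoCo0_smul]
    have hm : p ∈ σ • d ↔ σ.symm p ∈ d := by rw [← Finset.inv_smul_mem_iff]; rfl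
    simp only [signedPerm, Finset.mem_symmDiff, hm, Equiv.Perm.mul_def, Equiv.symm_trans_apply]
    by_cases h1 : p ∈ c <;> by_cases h2 : σ.symm p ∈ d <;> simp [h1, h2])

theorem mono_congr {σ τ : Equiv.Perm GolayPt} (e1 : σ = τ) {c d : Finset GolayPt} (e2 : c = d)
    (hσ : σ ∈ M24) (hτ : τ ∈ M24) (hc : c ∈ codeSets) (hd : d ∈ codeSets) :
    monoCo0 σ hσ c hc = monoCo0 τ hτ d hd := by subst e1; subst e2; rfl

theorem mono_one : monoCo0 1 (one_mem _) ∅ empty_mem_codeSets = 1 :=
  co0_ext fun i => Subtype.ext (funext fun p => by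
    rw [monoCo0_smul, one_smul, signedPerm_one, if_neg (Finset.notMem_empty p)])

/-- Conjugation by a permutation. -/
theorem perm_conj (k : M24) {σ : Equiv.Perm GolayPt} (hσ : σ ∈ M24) {c : Finset GolayPt} (hc : c ∈ codeSets)
    (h : k.1 • c ∈ codeSets) :
    permHom k * monoCo0 σ hσ c hc * (permHom k)⁻¹ =
      monoCo0 (k.1 * σ * k.1⁻¹) (mul_mem (mul_mem k.2 hσ) (inv_mem k.2)) (k.1 • c) h := by
  rw [← map_inv]
  show monoCo0 k.1 k.2 ∅ empty_mem_codeSets * _ * monoCo0 k.1⁻¹ (inv_mem k.2) ∅ empty_mem_codeSets = _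
  rw [mono_prod k.2 hσ _ hc (by rwa [← Finset.bot_eq_empty, bot_symmDiff]),
    mono_prod _ (inv_mem k.2) _ empty_mem_codeSets (by
      rw [Finset.smul_finset_empty, ← Finset.bot_eq_empty, symmDiff_bot, bot_symmDiff]; exact h)]
  refine mono_congr rfl ?_ _ _ _ _
  rw [Finset.smul_finset_empty, ← Finset.bot_eq_empty, symmDiff_bot, bot_symmDiff]

theorem sgn_conj_perm (k : M24) {c : Finset GolayPt} (hc : c ∈ codeSets) (h : k.1 • c ∈ codeSets) :
    permHom k * sgn c hc * (permHom k)⁻¹ = sgn (k.1 • c) h := by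
  rw [sgn, perm_conj k (one_mem _) hc h]
  exact mono_congr (by rw [mul_one, mul_inv_cancel]) rfl _ _ _ _

theorem sgn_sq {c : Finset GolayPt} (hc : c ∈ codeSets) : sgn c hc * sgn c hc = 1 := by
  rw [sgn, mono_prod _ _ hc hc (by rw [one_smul, symmDiff_self]; exact empty_mem_codeSets)]
  exact (mono_congr (one_mul 1) (by rw [one_smul, symmDiff_self]; rfl) _ _ _ _).trans mono_one

/-- Conjugation by a sign change. -/
theorem sgn_conj {σ : Equiv.Perm GolayPt} (hσ : σ ∈ M24) {c D : Finset GolayPt} (hc : c ∈ codeSets)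
    (hD : D ∈ codeSets) (h : c ∆ (D ∆ (σ • D)) ∈ codeSets) :
    sgn D hD * monoCo0 σ hσ c hc * (sgn D hD)⁻¹ = monoCo0 σ hσ (c ∆ (D ∆ (σ • D))) h := by
  rw [inv_eq_of_mul_eq_one_right (sgn_sq hD), sgn,
    mono_prod _ hσ hD hc (by rw [one_smul]; exact symmDiff_mem_supports hD hc),
    mono_prod _ _ _ hD (by
      rw [one_smul, one_mul, symmDiff_comm D c, symmDiff_assoc]; exact h)]
  refine mono_congr (by rw [one_mul, mul_one]) ?_ _ _ _ _
  rw [one_smul, one_mul, symmDiff_comm D c, symmDiff_assoc]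

theorem sqNorm_row (x : GolayPt → ℤ) : ((toRow x).map fun a => a * a).sum = sqNorm x := by
  rw [toRow, List.map_map, sqNorm]
  simp only [← sum_bits24, pow_two]
  rfl

theorem coord_eq (p : GolayPt) : gpt (Fin.ofNat 24 (gidx p).val) = p := by
  simp [Fin.ofNat, Nat.mod_eq_of_lt (gidx p).isLt, gpt_gidx]

theorem toRow_injective {x y : GolayPt → ℤ} (h : toRow x = toRow y) : x = y := funext fun p => by
  have := List.map_inj_left.1 h (gidx p).val (mem_bits24.2 (gidx p).isLt)
  rwa [coord_eq] at this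

/-- A frame check gives a conjugate fixing each coordinate line. -/
theorem exists_diag {p r : ℕ} {F : List (ℕ × ℕ)} (h : frameOk p r F = true) {σ : Equiv.Perm GolayPt}
    (hσ : σ ∈ M24) (hp : Rep σ p) (hr : mset r ∈ codeSets) :
    ∃ g : Co0, ∃ c, ∃ hc : c ∈ codeSets, g⁻¹ * monoCo0 σ hσ (mset r) hr * g = sgn c hc := by
  simp only [frameOk, Bool.and_eq_true, decide_eq_true_eq, List.all_eq_true] at h
  obtain ⟨⟨⟨⟨-, -⟩, hlen⟩, hnd⟩, hall⟩ := h
  set q₀ := F.getD 0 (0, 0) with hq₀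
  have hq₀F : q₀ ∈ F := by
    rw [hq₀, List.getD_eq_getElem?_getD, List.getElem?_eq_getElem (by omega : 0 < F.length)]
    exact List.getElem_mem _
  set f₀ := fourVec q₀
  have hL : ∀ q ∈ F, fourVec q ∈ leechLattice := fun q hq => mem_leech_of_inLeech (hall q hq).1.1.1.1
  have hN : ∀ q ∈ F, sqNorm (fourVec q) = 64 := fun q hq => by rw [← sqNorm_row]; exact (hall q hq).1.1.1.2
  set t := monoCo0 σ hσ (mset r) hr
  have heig : ∀ q ∈ F, ∀ w : leechLattice, (w : GolayPt → ℤ) = fourVec q → t • w = w ∨ t • w = -w := by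
    intro q hq w hw
    have he := (hall q hq).1.1.2
    simp only [eigen, Bool.or_eq_true, beq_iff_eq, List.map_map] at he
    have key : ∀ a : GolayPt, ((t • w : leechLattice) : GolayPt → ℤ) (σ a) =
        bif r.testBit (pget p (gidx a).val) then -fourVec q a else fourVec q a := fun a => by
      rw [monoCo0_smul, hw]
      simp only [signedPerm, Equiv.symm_apply_apply, mem_mset, hp a]
      cases r.testBit (pget p (gidx a).val) <;> simp
    have htg : ∀ a, gpt (Fin.ofNat 24 (pget p (gidx a).val)) = σ a := fun a => by rw [← hp a, coord_eq]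
    rcases he with e | e
    · refine Or.inl (Subtype.ext (funext fun b => ?_))
      obtain ⟨a, rfl⟩ := σ.surjective b
      have := List.map_inj_left.1 e (gidx a).val (mem_bits24.2 (gidx a).isLt)
      rw [coord_eq, htg] at this
      rw [key, this, hw]
    · refine Or.inr (Subtype.ext (funext fun b => ?_))
      obtain ⟨a, rfl⟩ := σ.surjective b
      have := List.map_inj_left.1 e (gidx a).val (mem_bits24.2 (gidx a).isLt)
      rw [Function.comp_apply, coord_eq, htg] at this
      rw [key, this, AddSubgroup.coe_neg, Pi.neg_apply, hw]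
  have hcross : ∀ x ∈ cross f₀, ∃ q ∈ F, x = fourVec q ∨ x = -fourVec q := by
    have hsub : ∀ x ∈ F.flatMap both, x ∈ cross f₀ := by
      intro x hx
      obtain ⟨q, hq, hx⟩ := List.mem_flatMap.1 hx
      have hz : (fun a => (f₀ a - fourVec q a) / 2) ∈ leechLattice := mem_leech_of_inLeech (hall q hq).2
      have hev : ∀ a, (f₀ a - fourVec q a) % 2 = 0 := fun a => by
        have := (hall q hq).1.2 _ (mem_bits24.2 (gidx a).isLt)
        rwa [coord_eq] at this
      simp only [both, List.mem_cons, List.not_mem_nil, or_false] at hx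
      rcases hx with rfl | rfl
      · refine ⟨hL q hq, (hN q hq).trans (hN q₀ hq₀F).symm, _, hz, funext fun a => ?_⟩
        have := hev a
        simp only [Pi.sub_apply, Pi.smul_apply, nsmul_eq_mul]; push_cast; omega
      · refine ⟨neg_mem (hL q hq), ?_, _, add_mem hz (hL q hq), funext fun a => ?_⟩
        · rw [show sqNorm (-fourVec q) = sqNorm (fourVec q) by simp [sqNorm]]
          exact (hN q hq).trans (hN q₀ hq₀F).symm
        · have := hev a
          simp only [Pi.sub_apply, Pi.neg_apply, Pi.smul_apply, Pi.add_apply, nsmul_eq_mul]; push_cast; omega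
    classical
    have hcard : (F.flatMap both).toFinset.card = 48 := by
      rw [List.toFinset_card_of_nodup (List.Nodup.of_map toRow hnd), List.length_flatMap]
      simp [both, hlen]
    have hset : cross f₀ = ↑(F.flatMap both).toFinset :=
      (Set.eq_of_subset_of_ncard_le (fun x hx => hsub x (List.mem_toFinset.1 hx))
        (by rw [Set.ncard_coe_finset, hcard, cross_ncard (hL q₀ hq₀F) (hN q₀ hq₀F)])
        (Set.finite_of_ncard_ne_zero (by rw [cross_ncard (hL q₀ hq₀F) (hN q₀ hq₀F)]; norm_num))).symm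
    intro x hx
    rw [hset, Finset.mem_coe, List.mem_toFinset, List.mem_flatMap] at hx
    obtain ⟨q, hq, hx⟩ := hx
    exact ⟨q, hq, by simpa [both] using hx⟩
  obtain ⟨g, hg⟩ := exists_smul_eq_of_moves
    (moves64 top.2 (stdCross_subset (e8_mem_stdCross none)).2)
    (moves64 (⟨f₀, hL q₀ hq₀F⟩ : leechLattice).2 (hN q₀ hq₀F))
  have hfix : ∀ i, (g⁻¹ * t * g) • e8 i = e8 i ∨ (g⁻¹ * t * g) • e8 i = -e8 i := by
    intro i
    have hin : ((g • e8 i : leechLattice) : GolayPt → ℤ) ∈ cross f₀ := by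
      obtain ⟨-, hn, z, hz, he⟩ : (e8 i : GolayPt → ℤ) ∈ cross ((top : leechLattice) : GolayPt → ℤ) := by
        rw [cross_top]; exact e8_mem_stdCross i
      refine ⟨(g • e8 i).2, ?_, _, (g • (⟨z, hz⟩ : leechLattice)).2, ?_⟩
      · rw [co0_sqNorm, hn, ← co0_sqNorm g top, hg]
      · have : g • top - g • e8 i = 2 • (g • (⟨z, hz⟩ : leechLattice)) := by
          show co0Hom g top - co0Hom g (e8 i) = 2 • co0Hom g ⟨z, hz⟩
          rw [← map_sub, ← map_nsmul]
          exact congrArg (co0Hom g) (Subtype.ext he)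
        have := congrArg Subtype.val this
        simpa [hg] using this
    obtain ⟨q, hq, hqe⟩ := hcross _ hin
    have h1 : t • (g • e8 i) = g • e8 i ∨ t • (g • e8 i) = -(g • e8 i) := by
      rcases hqe with e | e
      · exact heig q hq _ e
      · have := heig q hq (-(g • e8 i)) (by rw [AddSubgroup.coe_neg, e, neg_neg])
        rwa [co0_neg, neg_neg, neg_inj, neg_eq_iff_eq_neg] at this
    rcases h1 with e | e
    · left; rw [mul_smul, mul_smul, e, inv_smul_smul]
    · right; rw [mul_smul, mul_smul, e, co0_neg, inv_smul_smul]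
  have hmem : g⁻¹ * t * g ∈ crossStab := by
    rw [mem_crossStab_iff_top]
    rcases hfix none with e | e
    · exact ⟨none, 8, Or.inl rfl, congrArg Subtype.val e⟩
    · exact ⟨none, -8, Or.inr rfl, (congrArg Subtype.val e).trans (funext fun q => by
        by_cases hq : q = none <;> simp [e8, Pi.single_apply, hq])⟩
  obtain ⟨⟨τ, hτ⟩, c, hc, hv⟩ := crossStab_monomial ⟨_, hmem⟩
  have hone : τ = 1 := Equiv.ext fun i => by
    show τ i = i
    by_contra hne
    have h := congrFun (hv (e8 i)) (τ i)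
    rw [show ((e8 i : leechLattice) : GolayPt → ℤ) = Pi.single i 8 from rfl, signedPerm_single,
      Pi.single_eq_same] at h
    have h0 : (((g⁻¹ * t * g) • e8 i : leechLattice) : GolayPt → ℤ) (τ i) = 0 := by
      rcases hfix i with e | e <;> rw [e] <;> simp [e8, Pi.single_eq_of_ne hne]
    rw [h0] at h
    split at h <;> omega
  refine ⟨g, c, hc, ?_⟩
  exact (mono_eq hτ hc hv).trans (mono_congr hone rfl _ _ _ _)

theorem rep_cover {p : ℕ} {reps bnd : List ℕ} (h : coverOk p reps bnd = true) {σ : Equiv.Perm GolayPt}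
    (hσ : σ ∈ M24) (hp : Rep σ p) {c : Finset GolayPt} (hc : c ∈ codeSets) (hfix : σ • c = c) :
    ∃ r ∈ reps, ∃ D, ∃ _ : D ∈ codeSets, c ∆ (D ∆ (σ • D)) = mset r := by
  simp only [coverOk, Bool.and_eq_true, List.all_eq_true, decide_eq_true_eq] at h
  obtain ⟨m, hm, rfl⟩ := mem_supports_iff.1 hc
  have hmfix : Nat.beq (pimg p m) m = true := (fix_mask_iff hp (codeList_lt hm)).1 hfix
  have h2 := h.2 m hm
  rw [hmfix] at h2
  simp only [Bool.not_true, Bool.false_or, List.any_eq_true, Nat.beq_eq] at h2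
  obtain ⟨r, hr, D, hD, e⟩ := h2
  refine ⟨r, hr, mset D, (mset_mem_supports_iff (h.1 D hD).1).2 (h.1 D hD).2, ?_⟩
  rw [hp.smul_mset, ← mset_xor, ← mset_xor, e, ← Nat.xor_assoc, Nat.xor_self, Nat.zero_xor]

/-- Every involution of the group is conjugate to a sign change. -/
theorem exists_sgn {t : Co0} (ht : t * t = 1) :
    ∃ g : Co0, ∃ c, ∃ hc : c ∈ codeSets, g * t * g⁻¹ = sgn c hc := by
  haveI : Fact (Nat.Prime 2) := ⟨Nat.prime_two⟩
  haveI : Finite Co0 := Nat.finite_of_card_ne_zero (by rw [card_Co0]; norm_num)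
  obtain ⟨P⟩ := (inferInstance : Nonempty (Sylow 2 ↥crossStab))
  have hP : Nat.card ↥((P : Subgroup ↥crossStab).map crossStab.subtype) = 2 ^ (Nat.card Co0).factorization 2 := by
    rw [Subgroup.card_map_of_injective crossStab.subtype_injective, P.card_eq_multiplicity, card_crossStab,
      card_Co0]
    congr 1
    rw [show 4096 * 244823040 = 2 ^ 22 * (239085 : ℕ) by norm_num,
      show 8315553613086720000 = 2 ^ 22 * (1982582476875 : ℕ) by norm_num,
      Nat.factorization_mul (by norm_num) (by norm_num), Nat.factorization_mul (by norm_num) (by norm_num),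
      Finsupp.add_apply, Finsupp.add_apply, Nat.factorization_eq_zero_of_not_dvd (by norm_num : ¬ 2 ∣ 239085),
      Nat.factorization_eq_zero_of_not_dvd (by norm_num : ¬ 2 ∣ 1982582476875)]
  let Q := Sylow.ofCard _ hP
  have hpt : IsPGroup 2 ↥(Subgroup.zpowers t) := by
    rw [IsPGroup.iff_card]
    rw [Nat.card_zpowers]
    exact (Nat.dvd_prime_pow Nat.prime_two).1 (orderOf_dvd_of_pow_eq_one (n := 2 ^ 1) (by rw [pow_one, pow_two, ht]))
      |>.elim fun k hk => ⟨k, hk.2⟩
  obtain ⟨R, hR⟩ := hpt.exists_le_sylow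
  obtain ⟨g, hg⟩ := MulAction.exists_smul_eq Co0 R Q
  have hmem : g * t * g⁻¹ ∈ crossStab := by
    have h1 : g * t * g⁻¹ ∈ (Q : Subgroup Co0) := by
      rw [← hg]
      exact Subgroup.mem_map_of_mem _ (hR (Subgroup.mem_zpowers t))
    exact Subgroup.map_subtype_le _ h1
  obtain ⟨⟨σ, hσ⟩, c, hc, hv⟩ := crossStab_monomial ⟨_, hmem⟩
  have hm : g * t * g⁻¹ = monoCo0 σ hσ c hc := mono_eq hσ hc hv
  have hsq : monoCo0 σ hσ c hc * monoCo0 σ hσ c hc = 1 := by
    rw [← hm, show g * t * g⁻¹ * (g * t * g⁻¹) = g * (t * t) * g⁻¹ by group, ht, mul_one, mul_inv_cancel]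
  have hcs : σ • c ∈ codeSets := code_smul hσ hc
  rw [mono_prod hσ hσ hc hc (symmDiff_mem_supports hc hcs), ← mono_one] at hsq
  obtain ⟨e1, e2⟩ := mono_ext (σ := σ * σ) (τ := 1) (c := c ∆ (σ • c)) (d := ∅)
    fun v => congrArg (fun k : Co0 => ((k • v : leechLattice) : GolayPt → ℤ)) hsq
  have hfix : σ • c = c := (symmDiff_eq_bot.1 (by rw [e2]; rfl)).symm
  by_cases h1 : σ = 1
  · exact ⟨g, c, hc, hm.trans (mono_congr h1 rfl _ _ _ _)⟩
  have hord : orderOf σ = 2 := orderOf_eq_prime (by rw [pow_two, e1]) h1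
  obtain ⟨j, k, hk, hrep⟩ : ∃ j : Bool, ∃ k ∈ M24,
      Rep (k⁻¹ * σ * k) (invTargets.getD (if j then 1 else 0) (0, 0)).1 := by
    rcases involution_of_fixed hσ hord with ⟨-, k, hk, hr⟩ | ⟨-, k, hk, hr⟩
    · exact ⟨false, k, hk, hr⟩
    · exact ⟨true, k, hk, hr⟩
  set k' : M24 := ⟨k⁻¹, inv_mem hk⟩ with hk'
  set τ := k⁻¹ * σ * k with hτdef
  have hτ : τ ∈ M24 := mul_mem (mul_mem (inv_mem hk) hσ) hk
  set d := k⁻¹ • c with hddef
  have hd : d ∈ codeSets := code_smul (inv_mem hk) hc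
  have hstep : permHom k' * monoCo0 σ hσ c hc * (permHom k')⁻¹ = monoCo0 τ hτ d hd := by
    rw [perm_conj k' hσ hc hd]
    exact mono_congr (by rw [inv_inv]) rfl _ _ _ _
  have hdfix : τ • d = d := by
    rw [hτdef, hddef, mul_smul, mul_smul, smul_inv_smul, hfix]
  have main : ∀ (p : ℕ) (reps : List (ℕ × List (ℕ × ℕ))) (bnd : List ℕ), Rep τ p →
      reps.all (fun e => frameOk p e.1 e.2) = true → coverOk p (reps.map Prod.fst) bnd = true →
      ∃ g : Co0, ∃ c, ∃ hc : c ∈ codeSets, g * monoCo0 τ hτ d hd * g⁻¹ = sgn c hc := by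
    intro p reps bnd hrep hok hcov
    obtain ⟨r, hr, D, hD, e⟩ := rep_cover hcov hτ hrep hd hdfix
    obtain ⟨⟨r', F⟩, hF, rfl⟩ := List.mem_map.1 hr
    have hDD : d ∆ (D ∆ (τ • D)) ∈ codeSets :=
      symmDiff_mem_supports hd (symmDiff_mem_supports hD (code_smul hτ hD))
    have hcode : mset r' ∈ codeSets := e ▸ hDD
    obtain ⟨u, c', hc', hu⟩ := exists_diag (List.all_eq_true.1 hok _ hF) hτ hrep hcode
    refine ⟨u⁻¹ * sgn D hD, c', hc', ?_⟩
    rw [← hu, ← mono_congr rfl e hτ hτ hDD hcode, ← sgn_conj hτ hd hD hDD]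
    group
  obtain ⟨g', c', hc', h'⟩ : ∃ g : Co0, ∃ c, ∃ hc : c ∈ codeSets, g * monoCo0 τ hτ d hd * g⁻¹ = sgn c hc := by
    cases j with
    | false => exact main _ _ _ hrep frames_zero cover_zero
    | true => exact main _ _ _ hrep frames_one cover_one
  refine ⟨g' * permHom k' * g, c', hc', ?_⟩
  rw [← h', ← hstep, ← hm]
  group

theorem square_dodecad : squareDodecad ∈ dodecads := by
  have h : mset (orMask bits24 (fun i => qrWord 0 (gpt (Fin.ofNat 24 i)) == 1) id) = squareDodecad ∧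
      (squareDodecad).card = 12 ∧
      isCode (orMask bits24 (fun i => qrWord 0 (gpt (Fin.ofNat 24 i)) == 1) id) = true ∧
      orMask bits24 (fun i => qrWord 0 (gpt (Fin.ofNat 24 i)) == 1) id < 16777216 := by decide +kernel
  exact ⟨h.1 ▸ (mset_mem_supports_iff h.2.2.2).2 h.2.2.1, h.2.1⟩

/-- The dodecad involution. -/
noncomputable def epsD : Co0 := sgn squareDodecad square_dodecad.1

theorem negEl_eq : negEl = sgn Finset.univ univ_mem := rfl

theorem negEl_mul_sgn {c : Finset GolayPt} (hc : c ∈ codeSets) (h : Finset.univ ∆ c ∈ codeSets) :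
    negEl * sgn c hc = sgn (Finset.univ ∆ c) h := by
  rw [negEl_eq, sgn, sgn, mono_prod _ _ _ hc (by rw [one_smul]; exact h)]
  exact mono_congr (one_mul 1) (by rw [one_smul]) _ _ _ _

/-- The conjugacy classes of non-central involutions. -/
theorem involution_std {t : Co0} (ht : t * t = 1) (h1 : t ≠ 1) (hz : t ≠ negEl) :
    ∃ g : Co0, g * t * g⁻¹ = eps ∨ g * t * g⁻¹ = negEl * eps ∨ g * t * g⁻¹ = epsD := by
  obtain ⟨g, c, hc, e⟩ := exists_sgn ht
  have hne : c ≠ ∅ := by
    intro h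
    rw [sgn_congr h hc empty_mem_codeSets, sgn, mono_one, mul_inv_eq_one, mul_eq_left] at e
    exact h1 e
  have hnu : c ≠ Finset.univ := by
    intro h
    rw [sgn_congr h hc univ_mem, ← negEl_eq] at e
    refine hz ?_
    have : t = g⁻¹ * negEl * g := by rw [← e]; group
    rw [this, mul_assoc, ← Subgroup.mem_center_iff.1 negEl_center g, inv_mul_cancel_left]
  have moves : ∀ (X : Finset GolayPt) (hX : X ∈ codeSets) (Y : Finset GolayPt) (hY : Y ∈ codeSets),
      (∃ k ∈ M24, k • X = Y) → ∃ u : Co0, u * sgn X hX * u⁻¹ = sgn Y hY := by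
    rintro X hX Y hY ⟨k, hk, rfl⟩
    exact ⟨permHom ⟨k, hk⟩, sgn_conj_perm ⟨k, hk⟩ hX hY⟩
  have hcard : c.card = 0 ∨ c.card = 8 ∨ c.card = 12 ∨ c.card = 16 ∨ c.card = 24 := by
    obtain ⟨m, hm, rfl⟩ := mem_supports_iff.1 hc
    rw [mset_card, mcnt_eq_pcnt]
    have := List.all_eq_true.1 code_weights m hm
    simp only [Bool.or_eq_true, beq_iff_eq] at this
    omega
  rcases hcard with h | h | h | h | h
  · exact absurd (Finset.card_eq_zero.1 h) hne
  · obtain ⟨u, hu⟩ := moves c hc oSet oSet_mem (M24_octad_transitive ⟨hc, h⟩ oSet_octad)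
    exact ⟨u * g, Or.inl (by rw [show eps = sgn oSet oSet_mem from rfl, ← hu, ← e]; group)⟩
  · obtain ⟨u, hu⟩ := moves c hc squareDodecad square_dodecad.1 (M24_dodecad_transitive ⟨hc, h⟩ square_dodecad)
    exact ⟨u * g, Or.inr (Or.inr (by rw [epsD, ← hu, ← e]; group))⟩
  · have hc' : Finset.univ ∆ c ∈ codeSets := symmDiff_mem_supports univ_mem hc
    have h8 : (Finset.univ ∆ c).card = 8 := by
      have he : Finset.univ ∆ c = cᶜ := by ext p; simp [Finset.mem_symmDiff]
      rw [he, Finset.card_compl, h]; rfl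
    obtain ⟨u, hu⟩ := moves _ hc' oSet oSet_mem (M24_octad_transitive ⟨hc', h8⟩ oSet_octad)
    refine ⟨u * g, Or.inr (Or.inl ?_)⟩
    rw [show eps = sgn oSet oSet_mem from rfl, ← hu, ← negEl_mul_sgn hc hc', ← e]
    have hcomm : ∀ w : Co0, w * negEl = negEl * w := Subgroup.mem_center_iff.1 negEl_center
    have hnn : negEl * negEl = (1 : Co0) := by rw [negEl_eq]; exact sgn_sq _
    calc u * g * t * (u * g)⁻¹ = (negEl * negEl) * (u * (g * t * g⁻¹) * u⁻¹) := by rw [hnn]; group
      _ = negEl * (negEl * u) * (g * t * g⁻¹) * u⁻¹ := by group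
      _ = negEl * (u * negEl) * (g * t * g⁻¹) * u⁻¹ := by rw [hcomm u]
      _ = negEl * (u * (negEl * (g * t * g⁻¹)) * u⁻¹) := by group
  · exact absurd ((Finset.card_eq_iff_eq_univ c).1 (h.trans rfl)) hnu

end Cfsg.Lib.StdCo0
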