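import Cfsg.Agent.Lib.StdCo0.Classes
import Cfsg.Agent.Lib.Concrete.SporMathieu

/-!
The centraliser of the sign change on a dodecad is monomial.
-/

set_option autoImplicit false
set_option maxRecDepth 20000

namespace Cfsg.Lib.StdCo0

open Cfsg Cfsg.Lib.Concrete Cfsg.Lib.CoOne
open Cfsg.Spor (squareDodecad)
open scoped Pointwise symmDiff

/-- The centraliser of the dodecad involution. -/
noncomputable def cDod : Subgroup Co0 := Subgroup.centralizer {epsD}

theorem mem_cDod {g : Co0} : g ∈ cDod ↔ g * epsD = epsD * g := Subgroup.mem_centralizer_singleton_iff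

theorem none_notMem_dod : (none : GolayPt) ∉ squareDodecad := by
  rw [squareDodecad_eq]; decide +kernel

theorem epsD_neg {v : leechLattice} :
    epsD • v = -v ↔ ∀ p ∉ squareDodecad, (v : GolayPt → ℤ) p = 0 := by
  constructor
  · intro h p hp
    have := congrFun (congrArg Subtype.val h) p
    rw [epsD, sgn, monoCo0_smul, signedPerm_one, if_neg hp, AddSubgroup.coe_neg, Pi.neg_apply] at this
    omega
  · intro h
    refine Subtype.ext (funext fun p => ?_)
    rw [epsD, sgn, monoCo0_smul, signedPerm_one, AddSubgroup.coe_neg, Pi.neg_apply]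
    split
    · rfl
    · rename_i hp; rw [h p hp, neg_zero]

theorem smul_dod_supp {g : Co0} (hg : g ∈ cDod) {v : leechLattice}
    (hv : ∀ p ∉ squareDodecad, (v : GolayPt → ℤ) p = 0) :
    ∀ p ∉ squareDodecad, ((g • v : leechLattice) : GolayPt → ℤ) p = 0 := by
  refine epsD_neg.1 ?_
  rw [← mul_smul, ← mem_cDod.1 hg, mul_smul, epsD_neg.2 hv, co0_neg]

theorem two_set_code {x : GolayPt → ℤ} (hx : x ∈ leechLattice) {p₀ : GolayPt} (h0 : x p₀ = 0) :
    (∀ p, x p % 2 = 0) ∧ (Finset.univ.filter fun p => x p % 4 = 2) ∈ codeSets := by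
  obtain ⟨m, w, hw, hcong, -⟩ := mem_leechSet_iff.1 (mem_leechLattice_iff.1 hx)
  have hp : ∀ p, x p % 4 = (m + 2 * ((w p).val : ℤ)) % 4 := fun p => hcong p
  have hv : ∀ p, ((w p).val : ℤ) = 0 ∨ ((w p).val : ℤ) = 1 := fun p => by
    have := ZMod.val_lt (w p); omega
  have hm : m % 2 = 0 := by have := hp p₀; rcases hv p₀ with e | e <;> rw [h0, e] at this <;> omega
  refine ⟨fun p => by have := hp p; omega, ?_⟩
  have hsup : support₂ w ∈ codeSets := support₂_mem_supports_iff.2 hw
  have hmem : ∀ p, p ∈ support₂ w ↔ ((w p).val : ℤ) = 1 := fun p => by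
    simp only [support₂, Finset.mem_filter, Finset.mem_univ, true_and]
    rw [zmod_two_val]; split <;> simp_all
  rcases (show m % 4 = 0 ∨ m % 4 = 2 by omega) with e | e
  · convert hsup using 1
    ext p
    rw [Finset.mem_filter, hmem]
    have := hp p
    rcases hv p with q | q <;> simp [q] <;> omega
  · convert symmDiff_mem_supports univ_mem hsup using 1
    ext p
    rw [Finset.mem_filter, Finset.mem_symmDiff, hmem]
    have := hp p
    rcases hv p with q | q <;> simp [q] <;> omega

theorem code_in_dod : codeList.all (fun m => !(Nat.beq (Nat.land m 340831) m) ||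
    (Nat.beq (pcnt m) 0 || Nat.beq (pcnt m) 12)) = true := by decide +kernel

theorem code_sub_dod {c : Finset GolayPt} (hc : c ∈ codeSets) (h : c ⊆ squareDodecad) :
    c.card = 0 ∨ c.card = 12 := by
  obtain ⟨m, hm, rfl⟩ := mem_supports_iff.1 hc
  rw [squareDodecad_eq] at h
  have e : Nat.land m 340831 = m := by
    refine Nat.eq_of_testBit_eq fun i => ?_
    show (m &&& 340831).testBit i = _
    rw [Nat.testBit_and]
    by_cases hb : m.testBit i = true
    · have hi : i < 24 := by
        by_contra hi
        rw [Nat.testBit_lt_two_pow (lt_of_lt_of_le (codeList_lt hm) (Nat.pow_le_pow_right (by norm_num) (not_lt.1 hi)))] at hb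
        exact Bool.false_ne_true hb
      have := h (show gpt ⟨i, hi⟩ ∈ mset m by rw [mem_mset, gidx_gpt]; exact hb)
      rw [mem_mset, gidx_gpt] at this
      simp [hb, show (340831 : ℕ).testBit i = true from this]
    · simp [Bool.eq_false_iff.2 hb]
  have := List.all_eq_true.1 code_in_dod m hm
  rw [e] at this
  simp only [Bool.or_eq_true, Bool.not_eq_true', Nat.beq_eq] at this
  rw [mset_card, mcnt_eq_pcnt]
  rcases this with h | h
  · exact absurd (show Nat.beq m m = true by simp) (by rw [h]; simp)
  · exact h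

theorem two_set_empty {x : GolayPt → ℤ} (hx : x ∈ leechLattice)
    (hs : ∀ p ∉ squareDodecad, x p = 0) {T : Finset GolayPt} (hT : ∀ p, x p % 4 = 2 → p ∈ T)
    (hcard : T.card < 12) : ∀ p, x p % 4 = 0 := by
  obtain ⟨he, hc⟩ := two_set_code hx (hs none none_notMem_dod)
  rcases code_sub_dod hc (fun p hp => by
    by_contra hno
    rw [Finset.mem_filter, hs p hno] at hp
    exact absurd hp.2 (by norm_num)) with h | h
  · intro p
    have := he p
    have hn : p ∉ Finset.univ.filter (fun p => x p % 4 = 2) := by rw [Finset.card_eq_zero.1 h]; simp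
    simp only [Finset.mem_filter, Finset.mem_univ, true_and] at hn
    omega
  · exfalso
    have := Finset.card_le_card (show Finset.univ.filter (fun p => x p % 4 = 2) ⊆ T from
      fun p hp => hT p (Finset.mem_filter.1 hp).2)
    omega

theorem four_shape {v : leechLattice} (hs : ∀ p ∉ squareDodecad, (v : GolayPt → ℤ) p = 0)
    (hn : sqNorm (v : GolayPt → ℤ) = 64) : (v : GolayPt → ℤ) ∈ stdCross ∨
      ∃ S : Finset GolayPt, S.card = 4 ∧ ∀ p, (p ∈ S → (v : GolayPt → ℤ) p = 4 ∨ (v : GolayPt → ℤ) p = -4) ∧
        (p ∉ S → (v : GolayPt → ℤ) p = 0) := by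
  classical
  set x := (v : GolayPt → ℤ)
  have hsum : ∑ p, x p ^ 2 = 64 := hn
  have he := (two_set_code v.2 (hs none none_notMem_dod)).1
  have hbound : ∀ p, x p ^ 2 ≤ 64 := fun p =>
    hsum ▸ Finset.single_le_sum (fun q _ => sq_nonneg (x q)) (Finset.mem_univ p)
  have h4 : ∀ p, x p % 4 = 0 := by
    set W := Finset.univ.filter fun p => x p % 4 = 2 with hW
    refine two_set_empty v.2 hs (T := W) (fun p hp => Finset.mem_filter.2 ⟨Finset.mem_univ p, hp⟩) ?_
    by_contra hge
    push Not at hge
    have hWd : W ⊆ squareDodecad := fun p hp => by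
      by_contra hno
      rw [hW, Finset.mem_filter, hs p hno] at hp
      exact absurd hp.2 (by norm_num)
    have hWc : W = squareDodecad := Finset.eq_of_subset_of_card_le hWd (square_dodecad.2 ▸ hge)
    have hval : ∀ p ∈ W, x p ^ 2 = 4 ∨ 36 ≤ x p ^ 2 := fun p hp => by
      have h2 : x p % 4 = 2 := (Finset.mem_filter.1 hp).2
      rcases (show x p = 2 ∨ x p = -2 ∨ 6 ≤ x p ∨ x p ≤ -6 by omega) with e | e | e | e
      · left; rw [e]; norm_num
      · left; rw [e]; norm_num
      · right; nlinarith
      · right; nlinarith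
    have hW12 : W.card = 12 := by rw [hWc]; exact square_dodecad.2
    by_cases hbig : ∃ p ∈ W, 36 ≤ x p ^ 2
    · obtain ⟨p, hp, hb⟩ := hbig
      have h1 := Finset.sum_le_sum (fun q (hq : q ∈ W.erase p) =>
        (show (4 : ℤ) ≤ x q ^ 2 by rcases hval q (Finset.mem_of_mem_erase hq) with e | e <;> omega))
      rw [Finset.sum_const, Finset.card_erase_of_mem hp, hW12] at h1
      have h2 := Finset.sum_le_univ_sum_of_nonneg (s := W) (fun q => sq_nonneg (x q))
      rw [← Finset.add_sum_erase W _ hp, hsum] at h2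
      norm_num at h1
      omega
    · push Not at hbig
      have h1 : ∑ q ∈ W, x q ^ 2 = 48 := by
        rw [Finset.sum_congr rfl (fun q hq => (hval q hq).resolve_right (not_le.2 (hbig q hq))), Finset.sum_const,
          hW12]
        norm_num
      have h2 : ∑ q, x q ^ 2 = ∑ q ∈ W, x q ^ 2 := (Finset.sum_subset (Finset.subset_univ W) fun q _ hq => by
        have : x q = 0 := hs q (by rwa [← hWc])
        rw [this]; norm_num).symm
      omega
  have hcases : ∀ p, x p = 0 ∨ x p = 4 ∨ x p = -4 ∨ x p = 8 ∨ x p = -8 := fun p => by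
    have := hbound p
    have h1 : x p ≤ 8 := by nlinarith
    have h2 : -8 ≤ x p := by nlinarith
    have := h4 p
    omega
  by_cases h8 : ∃ a, x a = 8 ∨ x a = -8
  · obtain ⟨a, ha⟩ := h8
    left
    have hz : ∀ p, p ≠ a → x p = 0 := fun p hp => by
      have h1 := Finset.sum_le_univ_sum_of_nonneg (s := ({a, p} : Finset GolayPt)) (fun q => sq_nonneg (x q))
      rw [Finset.sum_pair hp.symm, hsum] at h1
      have : x a ^ 2 = 64 := by rcases ha with e | e <;> rw [e] <;> norm_num
      rw [this] at h1
      exact pow_eq_zero_iff (two_ne_zero) |>.1 (le_antisymm (by linarith) (sq_nonneg _))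
    refine ⟨a, x a, ha, funext fun p => ?_⟩
    by_cases hp : p = a
    · subst hp; simp
    · rw [hz p hp, Pi.single_eq_of_ne hp]
  · push Not at h8
    right
    have h44 : ∀ p, x p = 0 ∨ x p = 4 ∨ x p = -4 := fun p => by
      have := hcases p; have := h8 p; omega
    refine ⟨Finset.univ.filter fun p => x p ≠ 0, ?_, fun p => ⟨fun hp => ?_, fun hp => ?_⟩⟩
    · have h1 : ∑ p, x p ^ 2 = ∑ p ∈ Finset.univ.filter (fun p => x p ≠ 0), (16 : ℤ) := by
        rw [Finset.sum_filter]
        exact Finset.sum_congr rfl fun p _ => by rcases h44 p with e | e | e <;> simp [e]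
      rw [Finset.sum_const, hsum, nsmul_eq_mul] at h1
      omega
    · have := h44 p; simp only [Finset.mem_filter, Finset.mem_univ, true_and] at hp; tauto
    · simpa using hp

theorem cDod_le_crossStab {g : Co0} (hg : g ∈ cDod) : g ∈ crossStab := by
  classical
  have hcl : ∀ i, ∃ z ∈ leechLattice,
      ((g • top : leechLattice) : GolayPt → ℤ) - ((g • e8 i : leechLattice) : GolayPt → ℤ) = 2 • z := by
    intro i
    obtain ⟨-, -, z, hz, he⟩ : (e8 i : GolayPt → ℤ) ∈ cross ((top : leechLattice) : GolayPt → ℤ) := by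
      rw [cross_top]; exact e8_mem_stdCross i
    refine ⟨_, (g • (⟨z, hz⟩ : leechLattice)).2, ?_⟩
    have h : g • top - g • e8 i = 2 • (g • (⟨z, hz⟩ : leechLattice)) := by
      show co0Hom g top - co0Hom g (e8 i) = 2 • co0Hom g ⟨z, hz⟩
      rw [← map_sub, ← map_nsmul]
      exact congrArg (co0Hom g) (Subtype.ext he)
    exact congrArg Subtype.val h
  have hsupp : ∀ i ∈ squareDodecad, ∀ p ∉ squareDodecad, ((g • e8 i : leechLattice) : GolayPt → ℤ) p = 0 :=
    fun i hi => smul_dod_supp hg fun p hp => Pi.single_eq_of_ne (fun e => hp (by rw [e]; exact hi)) _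
  have hnorm : ∀ i, sqNorm ((g • e8 i : leechLattice) : GolayPt → ℤ) = 64 := fun i => by
    rw [co0_sqNorm]; exact (stdCross_subset (e8_mem_stdCross i)).2
  by_cases hex : ∃ i ∈ squareDodecad, ((g • e8 i : leechLattice) : GolayPt → ℤ) ∈ stdCross
  · obtain ⟨i, -, hi⟩ := hex
    rw [mem_crossStab_iff_top, ← cross_top]
    rw [← cross_top] at hi
    obtain ⟨-, -, z, hz, he⟩ := hi
    obtain ⟨z', hz', he'⟩ := hcl i
    refine ⟨(g • top).2, ?_, z - z', sub_mem hz hz', ?_⟩
    · rw [co0_sqNorm]
    · rw [smul_sub, ← he, ← he']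
      abel
  exfalso
  push Not at hex
  have hshape := fun i (hi : i ∈ squareDodecad) => (four_shape (hsupp i hi) (hnorm i)).resolve_left (hex i hi)
  choose S hScard hSval using hshape
  obtain ⟨i₀, hi₀⟩ : squareDodecad.Nonempty := Finset.card_pos.1 (by rw [square_dodecad.2]; norm_num)
  have hsame : ∀ i hi, S i hi = S i₀ hi₀ := by
    intro i hi
    obtain ⟨z, hz, he⟩ := hcl i
    obtain ⟨z', hz', he'⟩ := hcl i₀
    set y := z' - z
    have hy2 : ∀ p, ((g • e8 i : leechLattice) : GolayPt → ℤ) p - ((g • e8 i₀ : leechLattice) : GolayPt → ℤ) p = 2 * y p := by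
      intro p
      have h1 := congrFun he p
      have h2 := congrFun he' p
      simp only [Pi.sub_apply, Pi.smul_apply, nsmul_eq_mul, y] at h1 h2 ⊢
      push_cast at h1 h2
      omega
    have hys : ∀ p ∉ squareDodecad, y p = 0 := fun p hp => by
      have := hy2 p; rw [hsupp i hi p hp, hsupp i₀ hi₀ p hp] at this; omega
    have hy4 : ∀ p, y p % 4 = 0 := two_set_empty (sub_mem hz' hz) hys (T := S i hi ∪ S i₀ hi₀) (fun p hp => by
      rw [Finset.mem_union]
      by_contra hn
      push Not at hn
      have := hy2 p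
      rw [(hSval i hi p).2 hn.1, (hSval i₀ hi₀ p).2 hn.2] at this
      omega) (by
      have := Finset.card_union_le (S i hi) (S i₀ hi₀)
      rw [hScard, hScard] at this
      omega)
    ext p
    have := hy2 p
    have := hy4 p
    have := hSval i hi p
    have := hSval i₀ hi₀ p
    constructor
    · intro hp; by_contra hn
      rcases (hSval i hi p).1 hp with e | e <;> have := (hSval i₀ hi₀ p).2 hn <;> omega
    · intro hp; by_contra hn
      rcases (hSval i₀ hi₀ p).1 hp with e | e <;> have := (hSval i hi p).2 hn <;> omega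
  let neg : (GolayPt → ℤ) → Finset GolayPt := fun x => (S i₀ hi₀).filter fun p => x p = -4
  let vecs : GolayPt × Bool → GolayPt → ℤ := fun q =>
    bif q.2 then -((g • e8 q.1 : leechLattice) : GolayPt → ℤ) else ((g • e8 q.1 : leechLattice) : GolayPt → ℤ)
  have hinj : Set.InjOn (fun q => neg (vecs q)) ↑(squareDodecad ×ˢ (Finset.univ : Finset Bool)) := by
    rintro ⟨i, s⟩ hq ⟨j, t⟩ hr h
    rw [Finset.mem_coe, Finset.mem_product] at hq hr
    have hvi : vecs (i, s) = vecs (j, t) := funext fun p => by
      have h1 := Finset.ext_iff.1 h p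
      simp only [neg, Finset.mem_filter] at h1
      have hi := hSval i hq.1 p
      have hj := hSval j hr.1 p
      rw [hsame i hq.1] at hi
      rw [hsame j hr.1] at hj
      by_cases hp : p ∈ S i₀ hi₀
      · have := hi.1 hp; have := hj.1 hp
        simp only [hp, true_and, vecs] at h1 ⊢
        cases s <;> cases t <;> simp only [cond_true, cond_false, Pi.neg_apply] at h1 ⊢ <;> omega
      · have := hi.2 hp; have := hj.2 hp
        simp only [vecs]
        cases s <;> cases t <;> simp only [cond_true, cond_false, Pi.neg_apply] <;> omega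
    have hcase : vecs (i, s) = (((g • (bif s then -e8 i else e8 i) : leechLattice)) : GolayPt → ℤ) ∧
        vecs (j, t) = (((g • (bif t then -e8 j else e8 j) : leechLattice)) : GolayPt → ℤ) := by
      constructor
      · cases s <;> simp [vecs, co0_neg]
      · cases t <;> simp [vecs, co0_neg]
    rw [hcase.1, hcase.2] at hvi
    have h2 := congrArg Subtype.val (MulAction.injective g (Subtype.ext hvi))
    have h3 := congrFun h2 i
    by_cases hij : i = j
    · subst hij
      cases s <;> cases t <;> simp [e8] at h3 ⊢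
    · exfalso
      cases s <;> cases t <;> simp [e8, Pi.single_eq_of_ne hij] at h3
  have := Finset.card_le_card_of_injOn (t := (S i₀ hi₀).powerset) (fun q => neg (vecs q))
    (fun q _ => Finset.mem_powerset.2 (Finset.filter_subset _ _)) hinj
  rw [Finset.card_product, Finset.card_powerset, hScard, square_dodecad.2] at this
  simp at this

theorem cDod_stab {g : Co0} (hg : g ∈ cDod) {σ : Equiv.Perm GolayPt} {c : Finset GolayPt}
    (h : ∀ v : leechLattice, ((g • v : leechLattice) : GolayPt → ℤ) = signedPerm σ c v) :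
    σ • squareDodecad = squareDodecad := by
  refine Finset.eq_of_subset_of_card_le (fun q hq => ?_) (Finset.card_smul_finset σ squareDodecad).ge
  obtain ⟨p, hp, rfl⟩ := Finset.mem_smul_finset.1 hq
  by_contra hno
  have := smul_dod_supp hg (v := e8 p) (fun r hr => Pi.single_eq_of_ne (fun e => hr (by rw [e]; exact hp)) _) (σ p) hno
  rw [h, show ((e8 p : leechLattice) : GolayPt → ℤ) = Pi.single p 8 from rfl, signedPerm_single,
    Pi.single_eq_same] at this
  split at this <;> omega

end Cfsg.Lib.StdCo0
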