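import Cfsg.Agent.Lib.StdCo0.General

/-!
A criterion for tightness through a simple quotient.
-/

set_option autoImplicit false

namespace Cfsg.Lib.StdCo0

open scoped commutatorElement

universe u v

theorem commutator_eq_top_of_simple {S : Type*} [Group S] [IsSimpleGroup S]
    (hS : ∃ a b : S, a * b ≠ b * a) : commutator S = ⊤ := by
  rcases IsSimpleGroup.eq_bot_or_eq_top_of_normal (commutator S) inferInstance with h | h
  · exfalso
    obtain ⟨a, b, hab⟩ := hS
    refine hab ?_
    have h1 : ⁅a, b⁆ ∈ commutator S := Subgroup.commutator_mem_commutator (Subgroup.mem_top a) (Subgroup.mem_top b)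
    rw [h, Subgroup.mem_bot, commutatorElement_eq_one_iff_mul_comm] at h1
    exact h1
  · exact h

/-- An extension of a two-group inside the commutator subgroup by a simple group of even order. -/
theorem isTight_of_ext {D : Type u} [Group D] [Finite D] {S : Type v} [Group S] [IsSimpleGroup S] (f : D →* S)
    (hf : Function.Surjective f) (heven : Even (Nat.card S)) (hcard : ∃ k, Nat.card f.ker = 2 ^ k)
    (hS : ∃ a b : S, a * b ≠ b * a) (hker : f.ker ≤ commutator D) : IsTight D := by
  constructor
  · refine eq_top_iff.2 fun d _ => ?_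
    have h1 : f d ∈ (commutator D).map f := by
      rw [commutator_def, Subgroup.map_commutator, Subgroup.map_top_of_surjective f hf, ← commutator_def,
        commutator_eq_top_of_simple hS]
      exact Subgroup.mem_top _
    obtain ⟨c, hc, e⟩ := h1
    have : c⁻¹ * d ∈ f.ker := by rw [MonoidHom.mem_ker, map_mul, map_inv, e, inv_mul_cancel]
    simpa using mul_mem hc (hker this)
  · intro N hN hodd
    have hkN : f.ker ≤ N := by
      intro x hx
      rw [← QuotientGroup.eq_one_iff, ← orderOf_eq_one_iff]
      obtain ⟨k, hk⟩ := hcard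
      have h1 : orderOf (x : D ⧸ N) ∣ 2 ^ k :=
        (orderOf_map_dvd (QuotientGroup.mk' N) x).trans (hk ▸ Subgroup.orderOf_dvd_natCard _ hx)
      have h2 : orderOf (x : D ⧸ N) ∣ N.index := by
        rw [Subgroup.index_eq_card]; exact orderOf_dvd_natCard _
      exact Nat.Coprime.eq_one_of_dvd ((Nat.coprime_two_left.2 hodd).pow_left k |>.coprime_dvd_left h1) h2
    haveI := hN
    rcases IsSimpleGroup.eq_bot_or_eq_top_of_normal _ (hN.map f hf) with h | h
    · exfalso
      have hle : N ≤ f.ker := fun x hx => by
        have : f x ∈ N.map f := Subgroup.mem_map_of_mem f hx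
        rwa [h] at this
      have e : N.index = Nat.card S := by
        rw [le_antisymm hle hkN, Subgroup.index_ker, MonoidHom.range_eq_top.2 hf, Subgroup.card_top]
      rw [e] at hodd
      exact Nat.not_even_iff_odd.2 hodd heven
    · refine eq_top_iff.2 fun d _ => ?_
      obtain ⟨n, hn, e⟩ := (h ▸ Subgroup.mem_top (f d) : f d ∈ N.map f)
      have : n⁻¹ * d ∈ f.ker := by rw [MonoidHom.mem_ker, map_mul, map_inv, e, inv_mul_cancel]
      simpa using mul_mem hn (hkN this)

/-- An automorphism keeps the kernel of such an extension. -/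
theorem map_ker_le {D : Type u} [Group D] [Finite D] {S : Type v} [Group S] [IsSimpleGroup S] (f : D →* S)
    (hf : Function.Surjective f) (hcard : ∃ k, Nat.card f.ker = 2 ^ k) {m : ℕ} (hm : m ∣ Nat.card S)
    (hodd : Odd m) (hm1 : m ≠ 1) (σ : D ≃* D) {x : D} (hx : x ∈ f.ker) : σ x ∈ f.ker := by
  set N := f.ker.map σ.toMonoidHom
  have hN : N.Normal := (inferInstance : f.ker.Normal).map _ σ.surjective
  rcases IsSimpleGroup.eq_bot_or_eq_top_of_normal _ (hN.map f hf) with h | h
  · have h2 : f (σ x) ∈ N.map f := Subgroup.mem_map_of_mem f (Subgroup.mem_map_of_mem _ hx)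
    rwa [h] at h2
  · exfalso
    obtain ⟨k, hk⟩ := hcard
    have h1 : m ∣ 2 ^ k := by
      rw [← Subgroup.card_top (G := S), ← h] at hm
      exact hm.trans ((Subgroup.card_map_dvd N f).trans ((Subgroup.card_map_dvd f.ker σ.toMonoidHom).trans (hk ▸ dvd_rfl)))
    exact hm1 (Nat.eq_one_of_dvd_coprimes ((Nat.coprime_two_left.2 hodd).pow_left k) h1 dvd_rfl)

end Cfsg.Lib.StdCo0
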