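import Cfsg.Agent.Lib.StdCo0.DodShape
import Cfsg.Agent.Lib.StdCo0.Tight
import Cfsg.Agent.Lib.StdCo0.DodData

/-!
The centraliser of the sign change on a dodecad, and no exchange with minus one.
-/

set_option autoImplicit false
set_option maxRecDepth 100000

namespace Cfsg.Lib.StdCo0

open Cfsg Cfsg.Lib.Concrete Cfsg.Lib.CoOne
open Cfsg.Spor (squareDodecad)
open scoped Pointwise symmDiff

/-- The mask of the dodecad. -/
def dMask : ℕ := 340831

/-- The first element of the stabiliser, packed. -/
def dodA : ℕ := 604506256666072084544031931456653453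
/-- The second element, packed. -/
def dodB : ℕ := 305877239909933934004969283769340096
/-- An element carrying a word to its translate, packed. -/
def dodK : ℕ := 435693700403833815456318920810702214
/-- A word of weight eight meeting the dodecad in six points. -/
def word8 : ℕ := 3416079

/-- The checks that a packed permutation gives an element of the stabiliser of the dodecad. -/
def dodPermOk (p : ℕ) : Bool :=
  decide ((bits24.map (pget p)).Nodup) && bits24.all (fun i => decide (pget p i < 24)) &&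
    basisMasks.all (fun b => isCode (pimg p b) && decide (pimg p b < 16777216)) && Nat.beq (pimg p dMask) dMask

theorem dodPerms_ok : dodPermOk dodA = true ∧ dodPermOk dodB = true ∧ dodPermOk dodK = true := by
  decide +kernel

theorem exists_dod_perm {p : ℕ} (h : dodPermOk p = true) :
    ∃ k : M24, Cfsg.Lib.Concrete.Rep k.1 p ∧ k.1 • squareDodecad = squareDodecad := by
  simp only [dodPermOk, Bool.and_eq_true, decide_eq_true_eq, List.all_eq_true, Nat.beq_eq] at h
  obtain ⟨⟨⟨hnd, hlt⟩, hcode⟩, hd⟩ := h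
  let f : GolayPt → GolayPt := fun x => gpt ⟨pget p (gidx x).val, hlt _ (mem_bits24.2 (gidx x).isLt)⟩
  have hf : Function.Injective f := fun x y e => by
    have e1 : pget p (gidx x).val = pget p (gidx y).val := congrArg Fin.val (gpt_injective e)
    exact gidx_injective (Fin.ext (List.inj_on_of_nodup_map hnd (mem_bits24.2 (gidx x).isLt)
      (mem_bits24.2 (gidx y).isLt) e1))
  have hr : Cfsg.Lib.Concrete.Rep (Equiv.ofBijective f (Finite.injective_iff_bijective.1 hf)) p := fun x => by
    show (gidx (f x)).val = _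
    simp only [f, gidx_gpt]
  refine ⟨⟨_, rep_mem_M24 hr (List.all_eq_true.2 fun b hb => ?_)⟩, hr, ?_⟩
  · simpa using hcode b hb
  · rw [squareDodecad_eq, hr.smul_mset, show (340831 : ℕ) = dMask from rfl, hd]

/-- Words spanning the code through the two elements. -/
def dodSpan : List (ℕ × ℕ) := [(13062145, 8737015), (4845570, 15950993), (0, 1369154), (4845570, 4703533), (4845570, 14254209), (0, 9830549), (4845570, 7357552), (4845570, 15335473), (4845570, 14295507), (4845570, 6018097), (0, 3006551), (0, 5210132)]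

theorem dodSpan_check : ∀ j : Fin 12, isCode (dodSpan.getD j (0, 0)).1 = true ∧
    (dodSpan.getD j (0, 0)).1 < 16777216 ∧ isCode (dodSpan.getD j (0, 0)).2 = true ∧
    (dodSpan.getD j (0, 0)).2 < 16777216 ∧
    pimg dodA (dodSpan.getD j (0, 0)).1 ^^^ (dodSpan.getD j (0, 0)).1 ^^^
      (pimg dodB (dodSpan.getD j (0, 0)).2 ^^^ (dodSpan.getD j (0, 0)).2) = basisMasks.getD j 0 := by
  decide +kernel

theorem sgn_mem_cDod {c : Finset GolayPt} (hc : c ∈ codeSets) : sgn c hc ∈ cDod :=
  mem_cDod.2 (by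
    rw [epsD, sgn, sgn, mono_prod _ _ hc square_dodecad.1 (by rw [one_smul]; exact symmDiff_mem_supports hc square_dodecad.1),
      mono_prod _ _ square_dodecad.1 hc (by rw [one_smul]; exact symmDiff_mem_supports square_dodecad.1 hc)]
    exact mono_congr rfl (by rw [one_smul, one_smul, symmDiff_comm]) _ _ _ _)

theorem perm_mem_cDod (k : M24) (hk : k.1 • squareDodecad = squareDodecad) : permHom k ∈ cDod := by
  refine mem_cDod.2 ?_
  have h := sgn_conj_perm k square_dodecad.1 (by rw [hk]; exact square_dodecad.1)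
  rw [sgn_congr hk _ square_dodecad.1, mul_inv_eq_iff_eq_mul] at h
  exact h

/-- The sign changes in the centraliser. -/
noncomputable def dS (c : Finset GolayPt) (hc : c ∈ codeSets) : ↥cDod := ⟨sgn c hc, sgn_mem_cDod hc⟩

/-- The permutation part. -/
noncomputable def dodPerm : ↥cDod →* M24 := crossPerm.comp (Subgroup.inclusion fun _ => cDod_le_crossStab)

theorem dodPerm_mem (g : ↥cDod) : (dodPerm g).1 ∈ Cfsg.Spor.M12 := by
  obtain ⟨c, -, hc⟩ := crossPerm_spec ⟨g.1, cDod_le_crossStab g.2⟩
  exact ⟨(dodPerm g).2, cDod_stab g.2 hc⟩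

/-- The map onto the stabiliser of the dodecad. -/
noncomputable def toM12 : ↥cDod →* ↥Cfsg.Spor.M12 :=
  (M24.subtype.comp dodPerm).codRestrict Cfsg.Spor.M12 dodPerm_mem

theorem toM12_surjective : Function.Surjective toM12 := by
  rintro ⟨k, hk, hst⟩
  refine ⟨⟨permHom ⟨k, hk⟩, perm_mem_cDod ⟨k, hk⟩ hst⟩, Subtype.ext ?_⟩
  show (crossPerm ⟨permHom ⟨k, hk⟩, _⟩).1 = k
  exact congrArg Subtype.val (crossPerm_permHom ⟨k, hk⟩)

theorem toM12_ker {g : ↥cDod} (hg : g ∈ toM12.ker) : ∃ c, ∃ hc : c ∈ codeSets, g = dS c hc := by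
  obtain ⟨c, hc, h⟩ := crossPerm_spec ⟨g.1, cDod_le_crossStab g.2⟩
  have h1 : (crossPerm ⟨g.1, cDod_le_crossStab g.2⟩).1 = 1 :=
    congrArg Subtype.val (MonoidHom.mem_ker.1 hg)
  rw [h1] at h
  exact ⟨c, hc, Subtype.ext (mono_eq (one_mem _) hc h)⟩

theorem dS_ker {c : Finset GolayPt} (hc : c ∈ codeSets) : dS c hc ∈ toM12.ker := by
  refine MonoidHom.mem_ker.2 (Subtype.ext ?_)
  obtain ⟨c', -, h⟩ := crossPerm_spec ⟨sgn c hc, cDod_le_crossStab (sgn_mem_cDod hc)⟩
  exact (mono_unique (σ := 1) (c := c) (d := c') fun v => h v).symm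

theorem card_ker_M12 : Nat.card toM12.ker = 2 ^ 12 := by
  have h : Nat.card toM12.ker = Nat.card signSub := by
    refine Nat.card_congr
      { toFun := fun g => ⟨g.1.1, ⟨g.1.1, cDod_le_crossStab g.1.2⟩, ?_, rfl⟩
        invFun := fun g => ⟨⟨g.1, ?_⟩, ?_⟩
        left_inv := fun g => rfl
        right_inv := fun g => rfl }
    · exact Subtype.ext (congrArg Subtype.val (MonoidHom.mem_ker.1 g.2) :)
    · obtain ⟨⟨x, hx⟩, hk, e⟩ := g.2
      obtain ⟨c, hc, h⟩ := crossPerm_spec ⟨x, hx⟩
      rw [show crossPerm ⟨x, hx⟩ = 1 from hk] at h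
      have e' : (g : Co0) = x := e.symm
      have e2 : x = sgn c hc := mono_eq (one_mem _) hc h
      rw [e', e2]
      exact sgn_mem_cDod hc
    · obtain ⟨⟨x, hx⟩, hk, e⟩ := g.2
      refine MonoidHom.mem_ker.2 (Subtype.ext ?_)
      have e' : (⟨(g : Co0), hx |> fun h => (e ▸ h : (g : Co0) ∈ crossStab)⟩ : ↥crossStab) = ⟨x, hx⟩ := Subtype.ext e.symm
      show (crossPerm ⟨(g : Co0), _⟩).1 = 1
      rw [e', show crossPerm ⟨x, hx⟩ = 1 from hk]
      rfl
  rw [h, card_signSub]
  rfl

theorem m12_noncomm : ∃ a b : ↥Cfsg.Spor.M12, a * b ≠ b * a := by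
  obtain ⟨a, ha, ha'⟩ := exists_dod_perm dodPerms_ok.1
  obtain ⟨b, hb, hb'⟩ := exists_dod_perm dodPerms_ok.2.1
  refine ⟨⟨a.1, a.2, ha'⟩, ⟨b.1, b.2, hb'⟩, fun h => ?_⟩
  have h' : ∀ i : Fin 24, pget dodA (pget dodB i) = pget dodB (pget dodA i) := fun i => by
    have := congrArg (fun k : ↥Cfsg.Spor.M12 => (gidx (k.1 (gpt i))).val) h
    simp only [Subgroup.coe_mul, Equiv.Perm.mul_apply] at this
    rwa [ha, hb, hb, ha, gidx_gpt] at this
  revert h'
  decide +kernel

theorem comm_mem {X : Type*} [Group X] (a b : X) : a * b * a⁻¹ * b⁻¹ ∈ commutator X :=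
  Subgroup.commutator_mem_commutator (Subgroup.mem_top a) (Subgroup.mem_top b)

theorem commutator_moved (k : M24) (hk : k.1 • squareDodecad = squareDodecad) {D : Finset GolayPt}
    (hD : D ∈ codeSets) :
    sgn ((k.1 • D) ∆ D) (symmDiff_mem_supports (code_smul k.2 hD) hD) ∈ (commutator ↥cDod).map cDod.subtype := by
  set w : ↥cDod := ⟨permHom k, perm_mem_cDod k hk⟩ with hw
  have hm : cDod.subtype (w * dS D hD * w⁻¹ * (dS D hD)⁻¹) ∈ (commutator ↥cDod).map cDod.subtype :=
    Subgroup.mem_map_of_mem cDod.subtype (comm_mem w (dS D hD))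
  convert hm using 1
  simp only [hw, Subgroup.coe_subtype, dS, Subgroup.coe_mul, InvMemClass.coe_inv]
  symm
  rw [sgn_conj_perm k hD (code_smul k.2 hD), inv_eq_of_mul_eq_one_right (sgn_sq hD), sgn, sgn,
    mono_prod _ _ _ hD (by rw [one_smul]; exact symmDiff_mem_supports (code_smul k.2 hD) hD)]
  exact mono_congr (one_mul 1) (by rw [one_smul]) _ _ _ _

theorem sgn_mul' {c d : Finset GolayPt} (hc : c ∈ codeSets) (hd : d ∈ codeSets) :
    sgn c hc * sgn d hd = sgn (c ∆ d) (symmDiff_mem_supports hc hd) := by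
  rw [sgn, sgn, mono_prod _ _ hc hd (by rw [one_smul]; exact symmDiff_mem_supports hc hd)]
  exact mono_congr (one_mul 1) (by rw [one_smul]) _ _ _ _

/-- A subgroup containing the basis sign changes contains all. -/
theorem sgn_span (K : Subgroup Co0) (hb : ∀ b ∈ basisMasks, ∀ h : mset b ∈ codeSets, sgn (mset b) h ∈ K)
    {c : Finset GolayPt} (hc : c ∈ codeSets) : sgn c hc ∈ K := by
  have hall : ∀ b ∈ basisMasks, mset b ∈ codeSets := by
    intro b hb
    have := List.all_eq_true.1 (show basisMasks.all (fun b => isCode b && decide (b < 16777216)) = true by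
      decide +kernel) b hb
    simp only [Bool.and_eq_true, decide_eq_true_eq] at this
    exact (mset_mem_supports_iff this.2).2 this.1
  have haux : ∀ L : List ℕ, (∀ b ∈ L, b ∈ basisMasks) → ∀ k, ∃ h : mset (comboAux L k) ∈ codeSets, sgn _ h ∈ K := by
    intro L
    induction L with
    | nil =>
      intro _ k
      refine ⟨by rw [comboAux, mset_zero]; exact empty_mem_codeSets, ?_⟩
      convert one_mem K
      rw [sgn, ← mono_one]
      exact mono_congr rfl (by rw [comboAux, mset_zero]) _ _ _ _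
    | cons b L ih =>
      intro hL k
      obtain ⟨h, hm⟩ := ih (fun x hx => hL x (List.mem_cons_of_mem _ hx)) (k / 2)
      rw [comboAux]
      cases hk : (k % 2 == 1)
      · simp only [cond_false, Nat.zero_xor]
        exact ⟨h, hm⟩
      · simp only [cond_true]
        have hc' := hall b (hL b List.mem_cons_self)
        refine ⟨by rw [mset_xor]; exact symmDiff_mem_supports hc' h, ?_⟩
        convert mul_mem (hb b (hL b List.mem_cons_self) hc') hm using 1
        rw [sgn_mul']
        exact sgn_congr (mset_xor _ _) _ _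
  obtain ⟨m, hm, rfl⟩ := mem_supports_iff.1 hc
  obtain ⟨k, -, e⟩ := List.mem_map.1 (codeList_eq ▸ hm)
  obtain ⟨h, hmem⟩ := haux basisMasks (fun _ h => h) k
  subst e
  exact hmem

theorem sgn_mem_dod_commutator {c : Finset GolayPt} (hc : c ∈ codeSets) : dS c hc ∈ commutator ↥cDod := by
  have h := sgn_span ((commutator ↥cDod).map cDod.subtype) (fun b hb h => ?_) hc
  · obtain ⟨x, hx, e⟩ := h
    rwa [show dS c hc = x from Subtype.ext e.symm]
  obtain ⟨a, ha, ha'⟩ := exists_dod_perm dodPerms_ok.1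
  obtain ⟨a', hb', hb''⟩ := exists_dod_perm dodPerms_ok.2.1
  obtain ⟨j, hj, e⟩ := List.getElem_of_mem hb
  have h12 : j < 12 := lt_of_lt_of_le hj (by decide +kernel)
  obtain ⟨c1, l1, c2, l2, he⟩ := dodSpan_check ⟨j, h12⟩
  rw [show basisMasks.getD (⟨j, h12⟩ : Fin 12) 0 = b by
    rw [List.getD_eq_getElem?_getD, List.getElem?_eq_getElem hj]; simp [e]] at he
  have m1 := (mset_mem_supports_iff l1).2 c1
  have m2 := (mset_mem_supports_iff l2).2 c2
  have := mul_mem (commutator_moved a ha' m1) (commutator_moved a' hb'' m2)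
  rw [sgn_mul'] at this
  convert this using 1
  refine sgn_congr ?_ _ _
  rw [ha.smul_mset, hb'.smul_mset, ← mset_xor, ← mset_xor, ← mset_xor, he]

theorem finite_cDod : Finite ↥cDod := by
  haveI : Finite Co0 := Nat.finite_of_card_ne_zero (by rw [card_Co0]; norm_num)
  infer_instance

theorem isTight_cDod : IsTight ↥cDod := by
  haveI := finite_cDod
  haveI := isSimple_sporM12
  refine isTight_of_ext toM12 toM12_surjective (by rw [card_sporM12]; decide) ⟨12, card_ker_M12⟩ m12_noncomm ?_
  intro g hg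
  obtain ⟨c, hc, rfl⟩ := toM12_ker hg
  exact sgn_mem_dod_commutator hc

theorem card_cDod : Nat.card ↥cDod = 4096 * 95040 := by
  have h := toM12.ker.card_mul_index
  rw [Subgroup.index_ker, MonoidHom.range_eq_top.2 toM12_surjective, Subgroup.card_top, card_ker_M12,
    card_sporM12] at h
  exact h.symm

/-- The bit of a word of the code. -/
def wordBit (m : ℕ) : ℕ := Nat.land m 4095

/-- The tree check: each node is the image of an earlier one. -/
def treeOk (a b : ℕ) : List (ℕ × ℕ) → ℕ → Bool
  | [], _ => true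
  | e :: T, B => isCode e.1 && decide (e.1 < 16777216) && isCode (e.2 / 2) && B.testBit (wordBit (e.2 / 2)) &&
      Nat.beq (pimg (bif Nat.beq (e.2 % 2) 0 then a else b) (e.2 / 2)) e.1 &&
      treeOk a b T (B ||| 1 <<< wordBit e.1)

/-- The words in the tree. -/
def treeBits : ℕ := dodTree.foldl (fun B e => B ||| 1 <<< wordBit e.1) 0

/-- The first word of the tree. -/
def rootWord : ℕ := (dodTree.getD 0 (0, 0)).1

theorem tree_ok : treeOk dodA dodB dodTree.tail (1 <<< wordBit rootWord) = true ∧ isCode rootWord = true := by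
  decide +kernel

theorem tree_nodup : (List.range dodTree.length).all (fun k => Nat.ble 133 k ||
    (List.range k).all fun l => !(Nat.beq (dodTree.getD l (0, 0)).1 (dodTree.getD k (0, 0)).1)) = true := by
  decide +kernel

theorem tree_len : 133 ≤ dodTree.length := by decide +kernel

theorem tree_lt : dodTree.all (fun e => decide (e.1 < 16777216)) = true := by decide +kernel

theorem dodTree_lt (l : Fin 133) : (dodTree.getD l (0, 0)).1 < 2 ^ 24 := by
  have hl := lt_of_lt_of_le l.2 tree_len
  have := List.all_eq_true.1 tree_lt _ (List.getElem_mem hl)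
  rw [List.getD_eq_getElem?_getD, List.getElem?_eq_getElem hl]
  simpa using this

theorem tree_cover : codeList.all (fun m => !(Nat.beq (pcnt m) 12 && Nat.beq (pcnt (Nat.land m dMask)) 6) ||
    treeBits.testBit (wordBit m)) = true := by decide +kernel

/-- The words of weight eight meeting the dodecad in six points. -/
def eightSix : List ℕ := codeList.filter fun m => Nat.beq (pcnt m) 8 && Nat.beq (pcnt (Nat.land m dMask)) 6

theorem eightSix_len : eightSix.length ≤ 132 := by decide +kernel

theorem word8_ok : isCode word8 = true ∧ word8 < 16777216 ∧ pcnt word8 = 8 ∧ pcnt (Nat.land word8 dMask) = 6 ∧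
    pimg dodK word8 = word8 ^^^ dMask := by decide +kernel

/-- The words conjugate to one under the stabiliser. -/
def Moved (c e : Finset GolayPt) : Prop := ∃ k : M24, k.1 • squareDodecad = squareDodecad ∧ k.1 • c = e

theorem moved_trans {c e f : Finset GolayPt} (h : Moved c e) (h' : Moved e f) : Moved c f := by
  obtain ⟨k, hk, rfl⟩ := h
  obtain ⟨l, hl, rfl⟩ := h'
  exact ⟨l * k, by rw [Subgroup.coe_mul, mul_smul, hk, hl], by rw [Subgroup.coe_mul, mul_smul]⟩

theorem moved_symm {c e : Finset GolayPt} (h : Moved c e) : Moved e c := by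
  obtain ⟨k, hk, rfl⟩ := h
  refine ⟨k⁻¹, ?_, ?_⟩
  · rw [InvMemClass.coe_inv]; exact inv_smul_eq_iff.2 hk.symm
  · rw [InvMemClass.coe_inv, inv_smul_smul]

theorem code_of_bit {m m' : ℕ} (h : isCode m = true) (h' : isCode m' = true) (e : wordBit m = wordBit m') :
    m = m' := by
  simp only [isCode, beq_iff_eq] at h h'
  rw [← h, ← h']
  exact congrArg combo e

theorem bit_or {B j i : ℕ} : (B ||| 1 <<< j).testBit i = true ↔ B.testBit i = true ∨ i = j := by
  rw [Nat.testBit_lor, Bool.or_eq_true, Nat.one_shiftLeft, Nat.testBit_two_pow, decide_eq_true_eq]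
  exact or_congr_right eq_comm

theorem tree_go : ∀ (T : List (ℕ × ℕ)) (B : ℕ), treeOk dodA dodB T B = true →
    (∀ m, isCode m = true → B.testBit (wordBit m) = true → Moved (mset rootWord) (mset m)) →
    (∀ e ∈ T, Moved (mset rootWord) (mset e.1)) ∧
    ∀ m, isCode m = true → (T.foldl (fun B e => B ||| 1 <<< wordBit e.1) B).testBit (wordBit m) = true →
      Moved (mset rootWord) (mset m) := by
  intro T
  induction T with
  | nil => exact fun B _ h => ⟨fun e he => absurd he List.not_mem_nil, h⟩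
  | cons e T ih =>
    intro B hok hB
    simp only [treeOk, Bool.and_eq_true, decide_eq_true_eq, Nat.beq_eq] at hok
    obtain ⟨⟨⟨⟨⟨hc, -⟩, hp⟩, hbit⟩, himg⟩, hrest⟩ := hok
    have he : Moved (mset rootWord) (mset e.1) := by
      refine moved_trans (hB _ hp hbit) ?_
      obtain ⟨a, ha, ha'⟩ := exists_dod_perm dodPerms_ok.1
      obtain ⟨b, hb, hb'⟩ := exists_dod_perm dodPerms_ok.2.1
      cases hq : Nat.beq (e.2 % 2) 0
      · rw [hq, cond_false] at himg
        exact ⟨b, hb', by rw [hb.smul_mset, himg]⟩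
      · rw [hq, cond_true] at himg
        exact ⟨a, ha', by rw [ha.smul_mset, himg]⟩
    obtain ⟨h1, h2⟩ := ih (B ||| 1 <<< wordBit e.1) hrest fun m hm hb => by
      rcases bit_or.1 hb with h | h
      · exact hB m hm h
      · rw [code_of_bit hm hc h]; exact he
    exact ⟨fun x hx => (List.mem_cons.1 hx).elim (fun h => h ▸ he) (h1 x), h2⟩

theorem tree_moved : (∀ k < dodTree.length, Moved (mset rootWord) (mset (dodTree.getD k (0, 0)).1)) ∧
    ∀ m, isCode m = true → treeBits.testBit (wordBit m) = true → Moved (mset rootWord) (mset m) := by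
  have hroot : Moved (mset rootWord) (mset rootWord) := ⟨1, one_smul _ _, one_smul _ _⟩
  obtain ⟨h1, h2⟩ := tree_go dodTree.tail (1 <<< wordBit rootWord) tree_ok.1 fun m hm hb => by
    rw [Nat.one_shiftLeft, Nat.testBit_two_pow, decide_eq_true_eq] at hb
    rw [code_of_bit hm tree_ok.2 hb.symm]
    exact hroot
  have hhead : dodTree = dodTree.getD 0 (0, 0) :: dodTree.tail := by decide +kernel
  constructor
  · intro k hk
    rcases k with _ | k
    · exact hroot
    · refine h1 _ ?_
      rw [List.getD_eq_getElem?_getD, List.getElem?_eq_getElem hk, Option.getD_some, ← List.getElem_tail]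
      · exact List.getElem_mem _
      · rw [List.length_tail]; omega
  · intro m hm hb
    refine h2 m hm ?_
    rw [treeBits, hhead, List.foldl_cons, Nat.zero_or] at hb
    exact hb

theorem inter_mask (m : ℕ) : mset m ∩ squareDodecad = mset (Nat.land m dMask) := by
  rw [squareDodecad_eq]
  ext p
  rw [Finset.mem_inter, mem_mset, mem_mset, mem_mset]
  show _ ↔ (m &&& dMask).testBit (gidx p).val = true
  rw [Nat.testBit_and, Bool.and_eq_true]
  rfl

theorem moved_counts {c e : Finset GolayPt} (h : Moved c e) :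
    e.card = c.card ∧ (e ∩ squareDodecad).card = (c ∩ squareDodecad).card := by
  obtain ⟨k, hk, rfl⟩ := h
  refine ⟨Finset.card_smul_finset _ _, ?_⟩
  conv_lhs => rw [← hk, ← Finset.smul_finset_inter, Finset.card_smul_finset]

theorem sgn_inj {c e : Finset GolayPt} (hc : c ∈ codeSets) (he : e ∈ codeSets) (h : sgn c hc = sgn e he) :
    c = e :=
  (mono_ext (σ := 1) (τ := 1) fun v => congrArg (fun k : Co0 => ((k • v : leechLattice) : GolayPt → ℤ)) h).2

theorem conj_dS (g : ↥cDod) {c : Finset GolayPt} (hc : c ∈ codeSets) :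
    ∃ e, ∃ he : e ∈ codeSets, Moved c e ∧ g * dS c hc * g⁻¹ = dS e he := by
  obtain ⟨d, hd, hv⟩ := crossPerm_spec ⟨g.1, cDod_le_crossStab g.2⟩
  set k := crossPerm ⟨g.1, cDod_le_crossStab g.2⟩
  have hk : k.1 • squareDodecad = squareDodecad := cDod_stab g.2 hv
  have hkc : k.1 • c ∈ codeSets := code_smul k.2 hc
  refine ⟨k.1 • c, hkc, ⟨k, hk, rfl⟩, Subtype.ext ?_⟩
  simp only [dS, Subgroup.coe_mul, InvMemClass.coe_inv]
  have hg : (g : Co0) = sgn d hd * permHom k := by
    rw [show (g : Co0) = monoCo0 k.1 k.2 d hd from mono_eq k.2 hd hv]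
    show _ = sgn d hd * monoCo0 k.1 k.2 ∅ empty_mem_codeSets
    rw [sgn, mono_prod _ k.2 hd empty_mem_codeSets (by rw [one_smul, ← Finset.bot_eq_empty, symmDiff_bot]; exact hd)]
    exact mono_congr (one_mul k.1).symm (by rw [one_smul, ← Finset.bot_eq_empty, symmDiff_bot]) _ _ _ _
  rw [hg, mul_inv_rev, show sgn d hd * permHom k * sgn c hc * ((permHom k)⁻¹ * (sgn d hd)⁻¹) =
    sgn d hd * (permHom k * sgn c hc * (permHom k)⁻¹) * (sgn d hd)⁻¹ by group, sgn_conj_perm k hc hkc,
    sgn_mul', inv_eq_of_mul_eq_one_right (sgn_sq hd), sgn_mul']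
  exact sgn_congr (by rw [symmDiff_comm d (k.1 • c), symmDiff_assoc, symmDiff_self, symmDiff_bot]) _ _

theorem moved_conj {c e : Finset GolayPt} (h : Moved c e) (hc : c ∈ codeSets) (he : e ∈ codeSets) :
    ∃ g : ↥cDod, g * dS c hc * g⁻¹ = dS e he := by
  obtain ⟨k, hk, rfl⟩ := h
  exact ⟨⟨permHom k, perm_mem_cDod k hk⟩, Subtype.ext (sgn_conj_perm k hc he)⟩

theorem univ_symm_counts {c : Finset GolayPt} : (Finset.univ ∆ c).card = 24 - c.card ∧
    ((Finset.univ ∆ c) ∩ squareDodecad).card = 12 - (c ∩ squareDodecad).card := by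
  have he : Finset.univ ∆ c = cᶜ := by ext p; simp [Finset.mem_symmDiff]
  rw [he]
  refine ⟨by rw [Finset.card_compl]; rfl, ?_⟩
  have h1 : cᶜ ∩ squareDodecad = squareDodecad \ c := by ext p; simp [and_comm]
  rw [h1, Finset.card_sdiff, square_dodecad.2]

/-- An automorphism cannot exchange the dodecad involution with minus one. -/
theorem no_twist_dod (σ : ↥cDod ≃* ↥cDod) (h : σ (dS squareDodecad square_dodecad.1) = dS Finset.univ univ_mem) :
    False := by
  classical
  haveI := finite_cDod
  haveI := isSimple_sporM12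
  obtain ⟨hw1, hw2, hw3, hw4, hw5⟩ := word8_ok
  have hc0 : mset word8 ∈ codeSets := (mset_mem_supports_iff hw2).2 hw1
  set x := dS (mset word8) hc0
  -- the class of the first word
  let L : Finset (Finset GolayPt) := (eightSix.map mset).toFinset
  have hclass : ∀ g : ↥cDod, ∃ e ∈ L, ∃ he : e ∈ codeSets, g * x * g⁻¹ = dS e he := by
    intro g
    obtain ⟨e, he, hm, heq⟩ := conj_dS g hc0
    refine ⟨e, ?_, he, heq⟩
    obtain ⟨m, hmL, rfl⟩ := mem_supports_iff.1 he
    obtain ⟨h1, h2⟩ := moved_counts hm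
    rw [inter_mask, inter_mask, mset_card, mset_card, mcnt_eq_pcnt, mcnt_eq_pcnt] at h2
    rw [mset_card, mset_card, mcnt_eq_pcnt, mcnt_eq_pcnt] at h1
    exact List.mem_toFinset.2 (List.mem_map.2 ⟨m, List.mem_filter.2 ⟨hmL, by
      rw [Bool.and_eq_true, Nat.beq_eq, Nat.beq_eq]
      exact ⟨h1.trans hw3, h2.trans hw4⟩⟩, rfl⟩)
  -- the image
  have hxk : σ x ∈ toM12.ker := map_ker_le toM12 toM12_surjective ⟨12, card_ker_M12⟩ (m := 3)
    (by rw [card_sporM12]; norm_num) (by decide) (by norm_num) σ (dS_ker hc0)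
  obtain ⟨c1, hc1, e1⟩ := toM12_ker hxk
  obtain ⟨k, hk, hk'⟩ := exists_dod_perm dodPerms_ok.2.2
  obtain ⟨g, hg⟩ := moved_conj ⟨k, hk', rfl⟩ hc0 (code_smul k.2 hc0)
  have hkw : k.1 • mset word8 = squareDodecad ∆ mset word8 := by
    rw [hk.smul_mset, hw5, mset_xor, symmDiff_comm, squareDodecad_eq]
    rfl
  have hmul : dS (k.1 • mset word8) (code_smul k.2 hc0) = dS squareDodecad square_dodecad.1 * x := by
    refine Subtype.ext ?_
    simp only [x, dS, Subgroup.coe_mul]
    rw [sgn_mul']
    exact sgn_congr hkw _ _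
  have himg : σ g * σ x * (σ g)⁻¹ = dS (Finset.univ ∆ c1) (symmDiff_mem_supports univ_mem hc1) := by
    rw [← map_inv, ← map_mul, ← map_mul, hg, hmul, map_mul, h, e1]
    refine Subtype.ext ?_
    simp only [dS, Subgroup.coe_mul]
    exact sgn_mul' _ _
  obtain ⟨e, he, hm, heq⟩ := conj_dS (σ g) hc1
  rw [← e1, himg] at heq
  have heq' : Finset.univ ∆ c1 = e :=
    sgn_inj (symmDiff_mem_supports univ_mem hc1) he (congrArg Subtype.val heq)
  have hsame : Moved c1 (Finset.univ ∆ c1) := by rw [heq']; exact hm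
  obtain ⟨q1, q2⟩ := moved_counts hsame
  obtain ⟨r1, r2⟩ := univ_symm_counts (c := c1)
  obtain ⟨m1, hm1, rfl⟩ := mem_supports_iff.1 hc1
  rw [r1, mset_card, mcnt_eq_pcnt] at q1
  rw [r2, inter_mask, mset_card, mcnt_eq_pcnt] at q2
  have hb : pcnt (Nat.land m1 dMask) ≤ 12 := by
    have := Finset.card_le_card (Finset.inter_subset_right (s₁ := mset m1) (s₂ := squareDodecad))
    rwa [inter_mask, mset_card, mcnt_eq_pcnt, square_dodecad.2] at this
  have hcov := List.all_eq_true.1 tree_cover m1 hm1
  rw [show pcnt m1 = 12 by omega, show pcnt (Nat.land m1 dMask) = 6 by omega] at hcov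
  simp only [Nat.beq_refl, Bool.and_self, Bool.not_true, Bool.false_or] at hcov
  have hroot := tree_moved.2 m1 ((mset_mem_supports_iff (codeList_lt hm1)).1 hc1) hcov
  -- many distinct images
  have hmany : ∀ l : Fin 133, ∃ g : ↥cDod, ∃ hl : mset (dodTree.getD l (0, 0)).1 ∈ codeSets,
      g * σ x * g⁻¹ = dS _ hl := by
    intro l
    have hmv := moved_trans (moved_symm hroot) (tree_moved.1 l (lt_of_lt_of_le l.2 tree_len))
    have hl : mset (dodTree.getD l (0, 0)).1 ∈ codeSets := by
      obtain ⟨k', -, e'⟩ := hmv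
      rw [← e']; exact code_smul k'.2 hc1
    obtain ⟨g', hg'⟩ := moved_conj hmv hc1 hl
    exact ⟨g', hl, by rw [e1]; exact hg'⟩
  choose gl hl hgl using hmany
  choose el hel helc helx using fun l => hclass (σ.symm (gl l))
  have hinj : Function.Injective el := by
    intro a b hab
    have h1 : σ.symm (gl a) * x * (σ.symm (gl a))⁻¹ = σ.symm (gl b) * x * (σ.symm (gl b))⁻¹ := by
      rw [helx a, helx b]; exact Subtype.ext (sgn_congr hab (helc a) (helc b))
    have h2 := congrArg σ h1
    simp only [map_mul, map_inv, MulEquiv.apply_symm_apply, hgl] at h2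
    have h3 := sgn_inj (hl a) (hl b) (congrArg Subtype.val h2)
    by_contra hne
    rcases lt_or_gt_of_ne (fun h => hne (Fin.ext h) : a.1 ≠ b.1) with hlt | hlt
    · have := List.all_eq_true.1 tree_nodup b.1 (List.mem_range.2 (lt_of_lt_of_le b.2 tree_len))
      simp only [Bool.or_eq_true, List.all_eq_true, Bool.not_eq_true', Nat.ble_eq] at this
      rcases this with hh | hh
      · have hb133 := b.2; omega
      · exact absurd (mset_inj (dodTree_lt a) (dodTree_lt b) h3) (fun he' => by
          have := hh a.1 (List.mem_range.2 hlt); rw [he'] at this; simp at this)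
    · have := List.all_eq_true.1 tree_nodup a.1 (List.mem_range.2 (lt_of_lt_of_le a.2 tree_len))
      simp only [Bool.or_eq_true, List.all_eq_true, Bool.not_eq_true', Nat.ble_eq] at this
      rcases this with hh | hh
      · have ha133 := a.2; omega
      · exact absurd (mset_inj (dodTree_lt b) (dodTree_lt a) h3.symm) (fun he' => by
          have := hh b.1 (List.mem_range.2 hlt); rw [he'] at this; simp at this)
  have h133 := Finset.card_le_card_of_injOn (s := (Finset.univ : Finset (Fin 133))) el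
    (t := L) (fun l _ => hel l) hinj.injOn
  have hL : L.card ≤ 132 := (List.toFinset_card_le _).trans (by rw [List.length_map]; exact eightSix_len)
  rw [Finset.card_univ, Fintype.card_fin] at h133
  omega

end Cfsg.Lib.StdCo0
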