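import Cfsg.Agent.Lib.StdCo0.FrameData
import Cfsg.Agent.Lib.Concrete.ClassFacts
import Cfsg.Agent.Lib.Concrete.LeechXi

/-!
The kernel checks for the frames fixed linewise by monomial involutions.
-/

set_option autoImplicit false
set_option maxRecDepth 100000

namespace Cfsg.Lib.StdCo0

open Cfsg Cfsg.Lib.Concrete

/-- A vector with entries four in absolute value on a mask. -/
def fourVec (q : ℕ × ℕ) (p : GolayPt) : ℤ :=
  bif q.1.testBit (gidx p).val then (bif q.2.testBit (gidx p).val then -4 else 4) else 0

/-- The coordinates of a vector. -/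
def toRow (x : GolayPt → ℤ) : List ℤ := bits24.map fun i => x (gpt (Fin.ofNat 24 i))

/-- The two signs of a vector. -/
def both (q : ℕ × ℕ) : List (GolayPt → ℤ) := [fourVec q, -fourVec q]

/-- The vector is an eigenvector of the monomial map of a packed permutation and a mask. -/
def eigen (p r : ℕ) (x : GolayPt → ℤ) : Bool :=
  let im := bits24.map fun i =>
    bif r.testBit (pget p i) then -x (gpt (Fin.ofNat 24 i)) else x (gpt (Fin.ofNat 24 i))
  let tg := bits24.map fun i => x (gpt (Fin.ofNat 24 (pget p i)))
  im == tg || im == tg.map Neg.neg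

/-- The test of a frame. -/
def frameOk (p r : ℕ) (F : List (ℕ × ℕ)) : Bool :=
  decide (r < 16777216) && isCode r && decide (F.length = 24) &&
    decide ((F.flatMap both).map toRow).Nodup &&
    F.all fun q =>
      inLeech (fourVec q) && decide (((toRow (fourVec q)).map fun a => a * a).sum = 64) &&
      eigen p r (fourVec q) &&
      (bits24.all fun i => decide
        ((fourVec (F.getD 0 (0, 0)) (gpt (Fin.ofNat 24 i)) - fourVec q (gpt (Fin.ofNat 24 i))) % 2 = 0)) &&
      inLeech fun a => (fourVec (F.getD 0 (0, 0)) a - fourVec q a) / 2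

/-- Every fixed word is a representative times a coboundary. -/
def coverOk (p : ℕ) (reps bnd : List ℕ) : Bool :=
  bnd.all (fun D => decide (D < 16777216) && isCode D) &&
    codeList.all fun m => !(Nat.beq (pimg p m) m) ||
      reps.any fun r => bnd.any fun D => Nat.beq (D ^^^ pimg p D) (m ^^^ r)

theorem frames_zero : frameTab0.all (fun e => frameOk (invTargets.getD 0 (0, 0)).1 e.1 e.2) = true := by
  decide +kernel

theorem frames_one : frameTab1.all (fun e => frameOk (invTargets.getD 1 (0, 0)).1 e.1 e.2) = true := by
  decide +kernel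

theorem cover_zero : coverOk (invTargets.getD 0 (0, 0)).1 (frameTab0.map Prod.fst) boundTab0 = true := by
  decide +kernel

theorem cover_one : coverOk (invTargets.getD 1 (0, 0)).1 (frameTab1.map Prod.fst) boundTab1 = true := by
  decide +kernel

end Cfsg.Lib.StdCo0
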