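import Cfsg.Agent.Lib.FTCons.StandardSubgroup
import Cfsg.Agent.Lib.ZStar.Main
import Cfsg.Agent.Lib.Invol.Cyclic

/-!
A standard subgroup with centre of order two, inner automorphisms only and a cyclic Sylow subgroup
of its centraliser: conjugates of the central involution commuting with it lie inside.
-/

set_option autoImplicit false
set_option linter.unusedSectionVars false
set_option linter.style.haveILetI false

namespace Cfsg.Lib.StdCo0

open Subgroup Cfsg

universe u v

/-- Perfect, without proper normal subgroups of odd index. -/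
def IsTight (D : Type*) [Group D] : Prop :=
  commutator D = ⊤ ∧ ∀ N : Subgroup D, N.Normal → Odd N.index → N = ⊤

/-- A tight group maps trivially to a group with cyclic Sylow two-subgroups. -/
theorem tight_hom_trivial {D : Type v} [Group D] (hD : IsTight D) {X : Type u} [Group X] [Finite X]
    (hX : ∀ P : Sylow 2 X, IsCyclic (P : Subgroup X)) (f : D →* X) (d : D) : f d = 1 := by
  haveI : Fact (Nat.Prime 2) := ⟨Nat.prime_two⟩
  have hperf : ⁅f.range, f.range⁆ = f.range := by
    rw [MonoidHom.range_eq_map, ← Subgroup.map_commutator, ← commutator_def, hD.1]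
  have hodd : Odd (Nat.card f.range) := by
    by_contra hne
    rw [Nat.not_odd_iff_even] at hne
    obtain ⟨T⟩ := (inferInstance : Nonempty (Sylow 2 ↥f.range))
    have hT : IsCyclic (T : Subgroup ↥f.range) := by
      obtain ⟨P, hP⟩ := (T.2.map f.range.subtype).exists_le_sylow
      haveI := hX P
      haveI : IsCyclic ↥((T : Subgroup ↥f.range).map f.range.subtype) :=
        Subgroup.isCyclic_of_le hP
      exact isCyclic_of_surjective (MulEquiv.symm (Subgroup.equivMapOfInjective _ _ f.range.subtype_injective))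
        (MulEquiv.surjective _)
    obtain ⟨H, hH⟩ := Invol.exists_index_two_of_isCyclic hne T hT
    haveI : H.Normal := Subgroup.normal_of_index_eq_two hH
    haveI : IsMulCommutative (↥f.range ⧸ H) := by
      haveI : Fact (Nat.Prime 2) := ⟨Nat.prime_two⟩
      haveI : IsCyclic (↥f.range ⧸ H) :=
        isCyclic_of_prime_card (p := 2) (by rw [← Subgroup.index_eq_card, hH])
      exact IsCyclic.isMulCommutative
    have hle : commutator ↥f.range ≤ H := by
      rw [_root_.commutator_def, Subgroup.commutator_le]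
      intro a _ b _
      rw [← QuotientGroup.eq_one_iff]
      show QuotientGroup.mk' H (a * b * a⁻¹ * b⁻¹) = 1
      rw [map_mul, map_mul, map_mul, map_inv, map_inv, IsMulCommutative.is_comm.comm (QuotientGroup.mk' H a)]
      group
    have htop : commutator ↥f.range = ⊤ := by
      apply Subgroup.map_injective f.range.subtype_injective
      rw [_root_.commutator_def, Subgroup.map_commutator, ← MonoidHom.range_eq_map, f.range.range_subtype, hperf]
    rw [htop, top_le_iff] at hle
    rw [hle, Subgroup.index_top] at hH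
    exact absurd hH (by norm_num)
  have hker : f.ker = ⊤ := hD.2 _ inferInstance (by rwa [Subgroup.index_ker])
  exact MonoidHom.mem_ker.1 (hker ▸ mem_top d)

variable {G : Type u} [Group G] [Finite G]

/-- The data: a standard subgroup with a central involution. -/
structure Situation (A : Subgroup G) (z : G) : Prop where
  std : Cfsg.IsStandardSubgroup A
  mem : z ∈ A
  ord : orderOf z = 2
  zen : ∀ a ∈ A, (∀ b ∈ A, Commute a b) → a = 1 ∨ a = z
  com : ∀ a ∈ A, Commute z a
  inner : ∀ φ : MulAut ↥A, ∃ a : ↥A, ∀ x : ↥A, φ x = a * x * a⁻¹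
  cyc : ∀ R : Sylow 2 ↥(centralizer (A : Set G)), IsCyclic ↥(R : Subgroup ↥(centralizer (A : Set G)))

variable {A : Subgroup G} {z : G}

theorem Situation.cent (S : Situation A z) : z ∈ centralizer (A : Set G) :=
  mem_centralizer_iff.2 fun a ha => (S.com a ha).eq.symm

theorem Situation.conj_fix (S : Situation A z) {n : G} (hn : n ∈ normalizer (A : Set G)) :
    n * z * n⁻¹ = z := by
  have hnz : n * z * n⁻¹ ∈ A := (mem_normalizer_iff.1 hn z).1 S.mem
  refine (S.zen _ hnz fun b hb => ?_).elim (fun h => ?_) id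
  swap
  · rw [mul_inv_eq_one, mul_eq_left] at h
    exact absurd h (Invol.ne_one S.ord)
  · have hb' : n⁻¹ * b * n⁻¹⁻¹ ∈ A := (mem_normalizer_iff.1 (inv_mem hn) b).1 hb
    rw [inv_inv] at hb'
    show n * z * n⁻¹ * b = b * (n * z * n⁻¹)
    calc n * z * n⁻¹ * b = n * (z * (n⁻¹ * b * n)) * n⁻¹ := by group
      _ = n * ((n⁻¹ * b * n) * z) * n⁻¹ := by rw [(S.com _ hb').eq]
      _ = b * (n * z * n⁻¹) := by group

theorem Situation.commute_normalizer (S : Situation A z) {n : G} (hn : n ∈ normalizer (A : Set G)) :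
    Commute n z := mul_inv_eq_iff_eq_mul.1 (S.conj_fix hn)

theorem Situation.le_normalizer (S : Situation A z) {n : G} (hn : Commute n z) :
    n ∈ normalizer (A : Set G) :=
  FTCons.standard_centralizer_le S.std S.ord S.cent (mem_centralizer_singleton_iff.2 hn.eq)

theorem Situation.decompose (S : Situation A z) {n : G} (hn : n ∈ normalizer (A : Set G)) :
    ∃ a ∈ A, a⁻¹ * n ∈ centralizer (A : Set G) := by
  let φ : MulAut ↥A :=
    { toFun := fun x => ⟨n * x * n⁻¹, (mem_normalizer_iff.1 hn x).1 x.2⟩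
      invFun := fun x => ⟨n⁻¹ * x * n, by
        have := (mem_normalizer_iff.1 (inv_mem hn) x).1 x.2
        rwa [inv_inv] at this⟩
      left_inv := fun x => Subtype.ext (by show n⁻¹ * (n * (x : G) * n⁻¹) * n = x; group)
      right_inv := fun x => Subtype.ext (by show n * (n⁻¹ * (x : G) * n) * n⁻¹ = x; group)
      map_mul' := fun x y => Subtype.ext (by show n * ((x : G) * y) * n⁻¹ = _; simp [mul_assoc]) }
  obtain ⟨a, ha⟩ := S.inner φ
  refine ⟨a, a.2, mem_centralizer_iff.2 fun b hb => ?_⟩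
  have e : n * b * n⁻¹ = (a : G) * b * (a : G)⁻¹ := congrArg Subtype.val (ha ⟨b, hb⟩)
  calc b * ((a : G)⁻¹ * n) = (a : G)⁻¹ * ((a : G) * b * (a : G)⁻¹) * n := by group
    _ = (a : G)⁻¹ * (n * b * n⁻¹) * n := by rw [e]
    _ = (a : G)⁻¹ * n * b := by group

/-- The restriction of the quotient map of the normalizer by the subgroup. -/
noncomputable def toQuot (A : Subgroup G) : ↥(centralizer (A : Set G)) →*
    ↥(normalizer (A : Set G)) ⧸ A.subgroupOf (normalizer (A : Set G)) :=
  (QuotientGroup.mk' _).comp (Subgroup.inclusion (fun c hc => mem_normalizer_iff.2 fun a => by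
    have h : ∀ x ∈ A, c * x * c⁻¹ = x := fun x hx => by
      rw [← mem_centralizer_iff.1 hc x hx, mul_inv_cancel_right]
    constructor
    · intro ha; rwa [h a ha]
    · intro ha
      have e := h _ ha
      have : c * a * c⁻¹ = a := mul_right_cancel (b := c⁻¹) (mul_left_cancel (a := c) (by
        calc c * ((c * a * c⁻¹) * c⁻¹) = c * (c * a * c⁻¹) * c⁻¹ := by group
          _ = c * a * c⁻¹ := e
          _ = c * (a * c⁻¹) := by group))
      rwa [this] at ha))

theorem Situation.toQuot_surjective (S : Situation A z) : Function.Surjective (toQuot A) := by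
  intro q
  obtain ⟨n, rfl⟩ := QuotientGroup.mk'_surjective _ q
  obtain ⟨a, ha, hc⟩ := S.decompose n.2
  refine ⟨⟨a⁻¹ * n, hc⟩, (QuotientGroup.eq (s := A.subgroupOf _)).2 (mem_subgroupOf.2 ?_)⟩
  show (a⁻¹ * (n : G))⁻¹ * n ∈ A
  rw [mul_inv_rev, inv_inv, mul_assoc]
  have := (mem_normalizer_iff.1 (inv_mem n.2) a).1 ha
  rwa [inv_inv, mul_assoc] at this

theorem Situation.quot_sylow_cyclic (S : Situation A z)
    (P : Sylow 2 (↥(normalizer (A : Set G)) ⧸ A.subgroupOf (normalizer (A : Set G)))) :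
    IsCyclic (P : Subgroup (↥(normalizer (A : Set G)) ⧸ A.subgroupOf (normalizer (A : Set G)))) := by
  haveI : Fact (Nat.Prime 2) := ⟨Nat.prime_two⟩
  obtain ⟨R, rfl⟩ := Sylow.mapSurjective_surjective S.toQuot_surjective 2 P
  haveI := S.cyc R
  exact isCyclic_of_surjective ((toQuot A).subgroupMap (R : Subgroup ↥(centralizer (A : Set G))))
    ((toQuot A).subgroupMap_surjective _)

/-- A tight group mapping into the normalizer maps into the subgroup. -/
theorem Situation.tight_mem (S : Situation A z) {D : Type v} [Group D] (hD : IsTight D) (f : D →* G)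
    (hf : ∀ d, Commute (f d) z) (d : D) : f d ∈ A := by
  have h := tight_hom_trivial hD S.quot_sylow_cyclic
    ((QuotientGroup.mk' _).comp (f.codRestrict (normalizer (A : Set G)) fun d => S.le_normalizer (hf d))) d
  exact mem_subgroupOf.1 ((QuotientGroup.eq_one_iff _).1 h)

/-- The counting lemma. -/
theorem Situation.invol_mem (S : Situation A z) (R : Sylow 2 ↥(centralizer (A : Set G))) (g : G)
    (hR : ∀ r : ↥(R : Subgroup ↥(centralizer (A : Set G))), Commute (g * (r : G) * g⁻¹) z) :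
    g * z * g⁻¹ ∈ A := by
  haveI : Fact (Nat.Prime 2) := ⟨Nat.prime_two⟩
  set N := normalizer (A : Set G)
  let f : ↥(R : Subgroup ↥(centralizer (A : Set G))) →* ↥N ⧸ A.subgroupOf N :=
    (QuotientGroup.mk' _).comp ((((MulAut.conj g).toMonoidHom.comp (centralizer (A : Set G)).subtype).comp
      (R : Subgroup ↥(centralizer (A : Set G))).subtype).codRestrict N fun r => S.le_normalizer (hR r))
  set zc : ↥(centralizer (A : Set G)) := ⟨z, S.cent⟩
  have hz2 : orderOf zc = 2 := by rw [Subgroup.orderOf_mk, S.ord]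
  have hzz : ∀ c : ↥(centralizer (A : Set G)), c * zc = zc * c := fun c =>
    Subtype.ext (mem_centralizer_iff.1 c.2 z S.mem).symm
  have hzR : zc ∈ (R : Subgroup ↥(centralizer (A : Set G))) := by
    have hP : IsPGroup 2 ↥(zpowers zc) := IsPGroup.of_card (n := 1) (by rw [Nat.card_zpowers, hz2, pow_one])
    haveI : (zpowers zc).Normal := ⟨fun x hx g => by
      obtain ⟨k, rfl⟩ := mem_zpowers_iff.1 hx
      rw [← conj_zpow, show g * zc * g⁻¹ = zc by rw [hzz g, mul_inv_cancel_right]]
      exact zpow_mem (mem_zpowers zc) k⟩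
    exact hP.le_sylow_of_normal R (mem_zpowers zc)
  have hninj : ¬ Function.Injective f := by
    intro hinj
    have h1 : Nat.card ↥(R : Subgroup ↥(centralizer (A : Set G))) ∣ Nat.card (↥N ⧸ A.subgroupOf N) :=
      Subgroup.card_dvd_of_injective f hinj
    have h2 : zc ∈ (toQuot A).ker := (QuotientGroup.eq_one_iff _).2 (mem_subgroupOf.2 S.mem)
    have h3 := (toQuot A).ker.card_mul_index
    rw [Subgroup.index_ker, MonoidHom.range_eq_top.2 S.toQuot_surjective, Subgroup.card_top] at h3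
    have h4 : 2 ∣ Nat.card (toQuot A).ker := hz2 ▸ Subgroup.orderOf_dvd_natCard _ h2
    have h5 : 2 * Nat.card ↥(R : Subgroup ↥(centralizer (A : Set G))) ∣ Nat.card ↥(centralizer (A : Set G)) :=
      h3 ▸ mul_dvd_mul h4 h1
    rw [← (R : Subgroup ↥(centralizer (A : Set G))).card_mul_index, mul_comm 2] at h5
    exact R.not_dvd_index (Nat.dvd_of_mul_dvd_mul_left Nat.card_pos h5)
  obtain ⟨x, hx, hx1⟩ : ∃ x, x ∈ f.ker ∧ x ≠ 1 := by
    by_contra h
    push Not at h
    exact hninj ((MonoidHom.ker_eq_bot_iff f).1 ((Subgroup.eq_bot_iff_forall _).2 h))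
  haveI := S.cyc R
  have h2 : 2 ∣ Nat.card f.ker := by
    obtain ⟨k, hk⟩ := (R.2.to_subgroup f.ker).exists_card_eq
    rcases k with _ | k
    · exact absurd (Subgroup.eq_bot_iff_forall _ |>.1 (Subgroup.card_eq_one.1 (by rw [hk, pow_zero])) x hx) hx1
    · exact hk ▸ dvd_pow_self 2 (Nat.succ_ne_zero k)
  obtain ⟨y, hy⟩ := exists_prime_orderOf_dvd_card' (G := ↥f.ker) 2 h2
  have hy' : orderOf ((y : ↥(R : Subgroup ↥(centralizer (A : Set G)))) : ↥(centralizer (A : Set G))) = 2 := by
    rw [Subgroup.orderOf_coe, Subgroup.orderOf_coe, hy]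
  have e := Invol.eq_of_pow_two_group_cyclic (S.cyc R)
    (y : ↥(R : Subgroup ↥(centralizer (A : Set G)))).2 hzR hy' hz2
  have := mem_subgroupOf.1 ((QuotientGroup.eq_one_iff _).1 y.2)
  rw [MonoidHom.codRestrict_apply] at this
  simpa [e] using this

/-- The Sylow subgroup commuting with an involution of the normalizer. -/
theorem Situation.exists_sylow (S : Situation A z) {y : G} (hy : y * y = 1) (hyz : Commute y z) :
    ∃ R : Sylow 2 ↥(centralizer (A : Set G)),
      ∀ r : ↥(R : Subgroup ↥(centralizer (A : Set G))), Commute y (r : G) := by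
  haveI : Fact (Nat.Prime 2) := ⟨Nat.prime_two⟩
  obtain ⟨a, ha, hc⟩ := S.decompose (S.le_normalizer hyz)
  set c : ↥(centralizer (A : Set G)) := ⟨a⁻¹ * y, hc⟩ with hcdef
  have hac : Commute a (c : G) := mem_centralizer_iff.1 hc a ha
  have hyc : y = a * (c : G) := by rw [hcdef]; show y = a * (a⁻¹ * y); group
  have h1 : a * a * ((c : G) * (c : G)) = 1 := by
    rw [← hy, hyc]
    calc a * a * ((c : G) * (c : G)) = a * (a * (c : G)) * (c : G) := by group
      _ = a * ((c : G) * a) * (c : G) := by rw [hac.eq]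
      _ = a * (c : G) * (a * (c : G)) := by group
  have hcc : (c : G) * c = (a * a)⁻¹ := eq_inv_of_mul_eq_one_right h1
  have h4 : c ^ 4 = 1 := by
    refine Subtype.ext ?_
    show (c : G) ^ 4 = 1
    have hmem : (c : G) * c ∈ A := hcc ▸ inv_mem (mul_mem ha ha)
    rw [show (c : G) ^ 4 = ((c : G) * c) * ((c : G) * c) by simp [pow_succ, mul_assoc]]
    rcases S.zen _ hmem fun b hb => ((mem_centralizer_iff.1 (mul_mem hc hc) b hb : b * _ = _ * b)).symm with e | e
    · rw [e, one_mul]
    · rw [e, ← pow_two, ← S.ord, pow_orderOf_eq_one]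
  have hP : IsPGroup 2 ↥(zpowers c) := by
    intro x
    refine ⟨2, Subtype.ext ?_⟩
    obtain ⟨k, hk⟩ := mem_zpowers_iff.1 x.2
    show ((x : ↥(centralizer (A : Set G)))) ^ (2 ^ 2) = 1
    rw [← hk, ← zpow_natCast, ← zpow_mul, mul_comm k, zpow_mul, zpow_natCast, show (2 : ℕ) ^ 2 = 4 from rfl, h4,
      one_zpow]
  obtain ⟨R, hR⟩ := hP.exists_le_sylow
  haveI := S.cyc R
  refine ⟨R, fun r => ?_⟩
  have hcr : Commute (c : G) (r : G) := by
    obtain ⟨w, hw⟩ := IsCyclic.exists_generator (α := ↥(R : Subgroup ↥(centralizer (A : Set G))))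
    obtain ⟨i, hi⟩ := mem_zpowers_iff.1 (hw ⟨c, hR (mem_zpowers c)⟩)
    obtain ⟨j, hj⟩ := mem_zpowers_iff.1 (hw r)
    have h := ((Commute.refl w).zpow_zpow i j)
    rw [hi, hj] at h
    exact congrArg (fun x : ↥(R : Subgroup ↥(centralizer (A : Set G))) => ((x : ↥(centralizer (A : Set G))) : G)) h.eq
  rw [hyc]
  exact Commute.mul_left (mem_centralizer_iff.1 (r : ↥(centralizer (A : Set G))).2 a ha) hcr

/-- A conjugate commuting with the involution lies in the subgroup, and conversely. -/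
theorem Situation.conjugate_mem (S : Situation A z) (g : G) (h : Commute z (g * z * g⁻¹)) :
    g⁻¹ * z * g ∈ A := by
  obtain ⟨R, hR⟩ := S.exists_sylow (y := g * z * g⁻¹)
    (by rw [show g * z * g⁻¹ * (g * z * g⁻¹) = g * (z * z) * g⁻¹ by group, ← pow_two, ← S.ord, pow_orderOf_eq_one,
      mul_one, mul_inv_cancel]) h.symm
  have := S.invol_mem R g⁻¹ fun r => by
    have e := (hR r).eq
    show g⁻¹ * (r : G) * g⁻¹⁻¹ * z = z * (g⁻¹ * (r : G) * g⁻¹⁻¹)
    calc g⁻¹ * (r : G) * g⁻¹⁻¹ * z = g⁻¹ * ((r : G) * (g * z * g⁻¹)) * g := by group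
      _ = g⁻¹ * ((g * z * g⁻¹) * (r : G)) * g := by rw [e]
      _ = z * (g⁻¹ * (r : G) * g⁻¹⁻¹) := by group
  rwa [inv_inv] at this

theorem Situation.conjugate_mem' (S : Situation A z) (g : G) (h : Commute z (g * z * g⁻¹)) :
    g * z * g⁻¹ ∈ A := by
  have := S.conjugate_mem g⁻¹ (by
    rw [inv_inv]
    show z * (g⁻¹ * z * g) = g⁻¹ * z * g * z
    calc z * (g⁻¹ * z * g) = g⁻¹ * ((g * z * g⁻¹) * z) * g := by group
      _ = g⁻¹ * (z * (g * z * g⁻¹)) * g := by rw [h.eq]
      _ = g⁻¹ * z * g * z := by group)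
  rwa [inv_inv] at this

variable {H : Type v} [Group H] (e : ↥A ≃* H)

/-- The centraliser in the model, mapped into the group. -/
noncomputable def incl (t : H) : ↥(centralizer ({t} : Set H)) →* G :=
  A.subtype.comp (e.symm.toMonoidHom.comp (centralizer ({t} : Set H)).subtype)

theorem Situation.step (S : Situation A z) (g : G) {t t' : H} (ht : (e.symm t : G) = g * z * g⁻¹)
    (ht' : (e.symm t' : G) = g⁻¹ * z * g) (hD : IsTight ↥(centralizer ({t} : Set H)))
    (x : ↥(centralizer ({t} : Set H))) :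
    ∃ h : g⁻¹ * incl e t x * g ∈ A, e ⟨_, h⟩ ∈ centralizer ({t'} : Set H) := by
  let f : ↥(centralizer ({t} : Set H)) →* G := (MulAut.conj g⁻¹).toMonoidHom.comp (incl e t)
  have hfx : ∀ x, f x = g⁻¹ * incl e t x * g := fun x => by
    show g⁻¹ * incl e t x * g⁻¹⁻¹ = _
    rw [inv_inv]
  have hcomm : ∀ x, Commute (f x) z := fun x => by
    have h1 : Commute (incl e t x) (g * z * g⁻¹) := by
      rw [← ht]
      show ((e.symm x : ↥A) : G) * (e.symm t : G) = _
      rw [← coe_mul, ← map_mul, mem_centralizer_singleton_iff.1 x.2, map_mul, coe_mul]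
      rfl
    rw [hfx]
    show g⁻¹ * incl e t x * g * z = z * (g⁻¹ * incl e t x * g)
    calc g⁻¹ * incl e t x * g * z = g⁻¹ * (incl e t x * (g * z * g⁻¹)) * g := by group
      _ = g⁻¹ * ((g * z * g⁻¹) * incl e t x) * g := by rw [h1.eq]
      _ = _ := by group
  have hmem : g⁻¹ * incl e t x * g ∈ A := hfx x ▸ S.tight_mem hD f hcomm x
  refine ⟨hmem, mem_centralizer_singleton_iff.2 ?_⟩
  rw [← e.apply_symm_apply t', ← map_mul, ← map_mul]
  refine congrArg e (Subtype.ext ?_)
  rw [coe_mul, coe_mul, ht']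
  show g⁻¹ * incl e t x * g * (g⁻¹ * z * g) = g⁻¹ * z * g * (g⁻¹ * incl e t x * g)
  calc g⁻¹ * incl e t x * g * (g⁻¹ * z * g) = g⁻¹ * (incl e t x * z) * g := by group
    _ = g⁻¹ * (z * incl e t x) * g := by rw [← (show z * incl e t x = incl e t x * z from (S.com _ (e.symm (x : H)).2).eq)]
    _ = _ := by group

/-- The criterion. -/
theorem normal_of_model (hO : Cfsg.oddCore G = ⊥) (S : Situation A z) (e : ↥A ≃* H) (z₀ : H)
    (hz₀ : e ⟨z, S.mem⟩ = z₀)
    (hgood : ∀ t : H, t * t = 1 → t ≠ 1 → t ≠ z₀ → IsTight ↥(centralizer ({t} : Set H)))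
    (hswap : ∀ t t' : H, t * t = 1 → t ≠ 1 → t ≠ z₀ → t' * t' = 1 → t' ≠ 1 → t' ≠ z₀ →
      ∀ σ : ↥(centralizer ({t} : Set H)) ≃* ↥(centralizer ({t'} : Set H)),
        (∀ x : ↥(centralizer ({t} : Set H)), (x : H) = t → (σ x : H) = z₀) →
        (∀ x : ↥(centralizer ({t} : Set H)), (x : H) = z₀ → (σ x : H) = t') → False) :
    A.Normal := by
  have hzz : z * z = 1 := by rw [← pow_two, ← S.ord, pow_orderOf_eq_one]
  suffices hiso : Cfsg.IsIsolatedInvolution z by
    have hcen : ∀ g : G, Commute z g := fun g =>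
      ZStar.commute_of_oddCore_bot hO (ZStar.zStarHolds G z hiso g)
    exact Subgroup.normalizer_eq_top_iff.1 (eq_top_iff.2 fun g _ => S.le_normalizer (hcen g).symm)
  refine ⟨S.ord, fun g hg => ?_⟩
  by_contra hne
  have hy := S.conjugate_mem' g hg
  have hy' := S.conjugate_mem g hg
  have hne' : g⁻¹ * z * g ≠ z := fun h => hne (by
    calc g * z * g⁻¹ = g * (g⁻¹ * z * g) * g⁻¹ := by rw [h]
      _ = z := by group)
  have key : ∀ (w : G) (hw : w ∈ A), w * w = 1 → w ≠ 1 → w ≠ z →
      e ⟨w, hw⟩ * e ⟨w, hw⟩ = 1 ∧ e ⟨w, hw⟩ ≠ 1 ∧ e ⟨w, hw⟩ ≠ z₀ := by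
    intro w hw h2 h1 hz
    refine ⟨by rw [← map_mul, show (⟨w, hw⟩ : ↥A) * ⟨w, hw⟩ = 1 from Subtype.ext h2, map_one],
      fun h => h1 ?_, fun h => hz (congrArg Subtype.val (e.injective (h.trans hz₀.symm)))⟩
    exact congrArg Subtype.val ((MulEquiv.map_eq_one_iff e).1 h)
  have hone : z ≠ 1 := Invol.ne_one S.ord
  obtain ⟨a1, a2, a3⟩ := key _ hy (by rw [show g * z * g⁻¹ * (g * z * g⁻¹) = g * (z * z) * g⁻¹ by group, hzz, mul_one,
    mul_inv_cancel]) (fun h => hone (by rwa [mul_inv_eq_one, mul_eq_left] at h)) hne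
  obtain ⟨b1, b2, b3⟩ := key _ hy' (by rw [show g⁻¹ * z * g * (g⁻¹ * z * g) = g⁻¹ * (z * z) * g by group, hzz, mul_one,
    inv_mul_cancel]) (fun h => hone (by
      calc z = g * (g⁻¹ * z * g) * g⁻¹ := by group
        _ = 1 := by rw [h, mul_one, mul_inv_cancel])) hne'
  set t := e ⟨_, hy⟩ with ht
  set t' := e ⟨_, hy'⟩ with ht'
  have et : (e.symm t : G) = g * z * g⁻¹ := by rw [ht, e.symm_apply_apply]
  have et' : (e.symm t' : G) = g⁻¹ * z * g := by rw [ht', e.symm_apply_apply]
  have st : ∀ x : ↥(centralizer ({t} : Set H)), _ := S.step e g et et' (hgood t a1 a2 a3)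
  have st' : ∀ x : ↥(centralizer ({t'} : Set H)), _ := S.step e g⁻¹ (t := t') (t' := t)
    (by rw [et', inv_inv]) (by rw [et, inv_inv]) (hgood t' b1 b2 b3)
  let σ : ↥(centralizer ({t} : Set H)) ≃* ↥(centralizer ({t'} : Set H)) :=
    { toFun := fun x => ⟨e ⟨_, (st x).choose⟩, (st x).choose_spec⟩
      invFun := fun x => ⟨e ⟨_, (st' x).choose⟩, (st' x).choose_spec⟩
      left_inv := fun x => Subtype.ext (by
        show e ⟨g⁻¹⁻¹ * (e.symm (e ⟨g⁻¹ * incl e t x * g, _⟩) : G) * g⁻¹, _⟩ = (x : H)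
        rw [← e.apply_symm_apply (x : H)]
        refine congrArg e (Subtype.ext ?_)
        show g⁻¹⁻¹ * (e.symm (e ⟨g⁻¹ * incl e t x * g, _⟩) : G) * g⁻¹ = incl e t x
        rw [e.symm_apply_apply]
        group)
      right_inv := fun x => Subtype.ext (by
        show e ⟨g⁻¹ * (e.symm (e ⟨g⁻¹⁻¹ * incl e t' x * g⁻¹, _⟩) : G) * g, _⟩ = (x : H)
        rw [← e.apply_symm_apply (x : H)]
        refine congrArg e (Subtype.ext ?_)
        show g⁻¹ * (e.symm (e ⟨g⁻¹⁻¹ * incl e t' x * g⁻¹, _⟩) : G) * g = incl e t' x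
        rw [e.symm_apply_apply]
        group)
      map_mul' := fun x y => Subtype.ext (by
        show e ⟨g⁻¹ * incl e t (x * y) * g, _⟩ = e ⟨g⁻¹ * incl e t x * g, _⟩ * e ⟨g⁻¹ * incl e t y * g, _⟩
        rw [← map_mul]
        refine congrArg e (Subtype.ext ?_)
        show g⁻¹ * incl e t (x * y) * g = (g⁻¹ * incl e t x * g) * (g⁻¹ * incl e t y * g)
        rw [map_mul]
        group) }
  have ez : (e.symm z₀ : G) = z := by rw [← hz₀, e.symm_apply_apply]
  refine hswap t t' a1 a2 a3 b1 b2 b3 σ (fun x hx => ?_) fun x hx => ?_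
  · show e ⟨g⁻¹ * incl e t x * g, _⟩ = z₀
    rw [← hz₀]
    refine congrArg e (Subtype.ext ?_)
    show g⁻¹ * (e.symm (x : H) : G) * g = z
    rw [hx, et]
    group
  · show e ⟨g⁻¹ * incl e t x * g, _⟩ = e ⟨g⁻¹ * z * g, _⟩
    refine congrArg e (Subtype.ext ?_)
    show g⁻¹ * (e.symm (x : H) : G) * g = g⁻¹ * z * g
    rw [hx, ez]

end Cfsg.Lib.StdCo0
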