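import Cfsg.Agent.Lib.StdCo0.OctadRep
import Cfsg.Agent.Lib.StdCo0.Dodecad
import Cfsg.Agent.Lib.Co1Out.Main

/-!
The automorphism group of the rank-24 lattice satisfies the hypotheses of the criterion.
-/

set_option autoImplicit false
set_option maxRecDepth 20000
set_option synthInstance.maxSize 512

namespace Cfsg.Lib.StdCo0

open Cfsg Cfsg.Lib.Concrete Cfsg.Lib.CoOne
open Cfsg.Spor (squareDodecad)
open scoped Pointwise symmDiff commutatorElement

theorem negEl_ne : (negEl : Co0) ≠ 1 := fun h => by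
  have h' := congrArg (fun k : Co0 => ((k • top : leechLattice) : GolayPt → ℤ) none) h
  simp only [negEl_smul, one_smul, AddSubgroup.coe_neg, Pi.neg_apply] at h'
  have h8 : ((top : leechLattice) : GolayPt → ℤ) none = 8 := by
    show (Pi.single none 8 : GolayPt → ℤ) none = 8
    simp
  omega

theorem center_two {g : Co0} (hg : g ∈ Subgroup.center Co0) : g = 1 ∨ g = negEl := by
  rcases center_cases hg with h | h
  · exact Or.inl (co0_ext fun i => by rw [h, one_smul])
  · exact Or.inr (co0_ext fun i => by rw [h, negEl_smul])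

theorem negEl_sq : (negEl : Co0) * negEl = 1 := sgn_sq _

theorem negEl_comm (g : Co0) : g * negEl = negEl * g := Subgroup.mem_center_iff.1 negEl_center g

/-- Every automorphism is inner. -/
theorem inner_co0 (hperf : commutator ↥Co0 = ⊤) (φ : MulAut ↥Co0) :
    ∃ h : Co0, ∀ x, φ x = h * x * h⁻¹ := by
  have hc : (Subgroup.center Co0).map φ.toMonoidHom = Subgroup.center Co0 := by
    ext x
    constructor
    · rintro ⟨c, hc, rfl⟩
      refine Subgroup.mem_center_iff.2 fun y => ?_
      obtain ⟨y', rfl⟩ := φ.surjective y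
      show φ y' * φ c = φ c * φ y'
      rw [← map_mul, ← map_mul, Subgroup.mem_center_iff.1 hc]
    · intro hx
      refine ⟨φ.symm x, Subgroup.mem_center_iff.2 fun y => φ.injective ?_, φ.apply_symm_apply x⟩
      rw [map_mul, map_mul, φ.apply_symm_apply, Subgroup.mem_center_iff.1 hx]
  let f : MulAut Spor.Co1 := QuotientGroup.congr (Subgroup.center Co0) (Subgroup.center Co0) φ hc
  obtain ⟨q, hq⟩ := Cfsg.Lib.Co1Out.mem_inn f
  obtain ⟨h, rfl⟩ := QuotientGroup.mk'_surjective _ q
  have key : ∀ x : Co0, (h * x * h⁻¹)⁻¹ * φ x ∈ Subgroup.center Co0 := fun x => by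
    rw [← QuotientGroup.eq_one_iff, QuotientGroup.mk_mul, QuotientGroup.mk_inv, inv_mul_eq_one]
    have e := congrArg (fun a : MulAut Spor.Co1 => a (x : Spor.Co1)) hq
    exact e
  refine ⟨h, fun x => ?_⟩
  let d : ↥Co0 →* ↥(Subgroup.center Co0) :=
    MonoidHom.mk' (fun x => ⟨(h * x * h⁻¹)⁻¹ * φ x, key x⟩) fun x y => Subtype.ext (by
      show (h * (x * y) * h⁻¹)⁻¹ * φ (x * y) = (h * x * h⁻¹)⁻¹ * φ x * ((h * y * h⁻¹)⁻¹ * φ y)
      rw [map_mul]
      calc (h * (x * y) * h⁻¹)⁻¹ * (φ x * φ y)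
          = (h * y * h⁻¹)⁻¹ * ((h * x * h⁻¹)⁻¹ * φ x) * φ y := by group
        _ = (h * x * h⁻¹)⁻¹ * φ x * (h * y * h⁻¹)⁻¹ * φ y := by
            rw [Subgroup.mem_center_iff.1 (key x) ((h * y * h⁻¹)⁻¹)]
        _ = _ := by group)
  have hle : commutator ↥Co0 ≤ d.ker := by
    rw [_root_.commutator_def, Subgroup.commutator_le]
    intro a _ b _
    refine MonoidHom.mem_ker.2 ?_
    rw [map_commutatorElement]
    refine commutatorElement_eq_one_iff_mul_comm.2 (Subtype.ext ?_)
    exact Subgroup.mem_center_iff.1 (d b).2 (d a).1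
  have hk : d.ker = ⊤ := top_le_iff.1 (hperf ▸ hle)
  have h1 : d x = 1 := MonoidHom.mem_ker.1 (hk ▸ Subgroup.mem_top x)
  have h2 : (h * x * h⁻¹)⁻¹ * φ x = 1 := congrArg Subtype.val h1
  rw [← inv_mul_eq_one.1 h2]

theorem centralizer_neg_eps : Subgroup.centralizer ({negEl * eps} : Set Co0) = cEps := by
  ext g
  rw [Subgroup.mem_centralizer_singleton_iff, mem_cEps]
  constructor
  · intro h
    rw [← mul_assoc, negEl_comm g, mul_assoc, mul_assoc, mul_right_inj] at h
    exact h
  · intro h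
    rw [← mul_assoc, negEl_comm g, mul_assoc, mul_assoc, h]

/-- The equivalence of centralisers given by conjugation. -/
def centConj {H : Type*} [Group H] (g : H) {s t : H} (h : g * t * g⁻¹ = s) :
    ↥(Subgroup.centralizer ({t} : Set H)) ≃* ↥(Subgroup.centralizer ({s} : Set H)) where
  toFun x := ⟨g * x * g⁻¹, Subgroup.mem_centralizer_singleton_iff.2 (by
    rw [← h]
    calc g * (x : H) * g⁻¹ * (g * t * g⁻¹) = g * ((x : H) * t) * g⁻¹ := by group
      _ = g * (t * (x : H)) * g⁻¹ := by rw [Subgroup.mem_centralizer_singleton_iff.1 x.2]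
      _ = g * t * g⁻¹ * (g * (x : H) * g⁻¹) := by group)⟩
  invFun x := ⟨g⁻¹ * x * g, Subgroup.mem_centralizer_singleton_iff.2 (by
    have e : t = g⁻¹ * s * g := by rw [← h]; group
    rw [e]
    calc g⁻¹ * (x : H) * g * (g⁻¹ * s * g) = g⁻¹ * ((x : H) * s) * g := by group
      _ = g⁻¹ * (s * (x : H)) * g := by rw [Subgroup.mem_centralizer_singleton_iff.1 x.2]
      _ = g⁻¹ * s * g * (g⁻¹ * (x : H) * g) := by group)⟩
  left_inv x := Subtype.ext (by show g⁻¹ * (g * (x : H) * g⁻¹) * g = x; group)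
  right_inv x := Subtype.ext (by show g * (g⁻¹ * (x : H) * g) * g⁻¹ = x; group)
  map_mul' x y := Subtype.ext (by
    show g * ((x : H) * y) * g⁻¹ = g * (x : H) * g⁻¹ * (g * (y : H) * g⁻¹)
    group)

theorem isTight_congr {D E : Type*} [Group D] [Group E] (e : D ≃* E) (h : IsTight D) : IsTight E := by
  refine ⟨?_, fun N hN hodd => ?_⟩
  · rw [commutator_def, ← Subgroup.map_top_of_surjective e.toMonoidHom e.surjective, ← Subgroup.map_commutator,
      ← commutator_def, h.1]
  · have h1 := h.2 (N.comap e.toMonoidHom) (hN.comap _)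
      (by rwa [Subgroup.index_comap_of_surjective N e.surjective])
    refine eq_top_iff.2 fun x _ => ?_
    have : e.symm x ∈ N.comap e.toMonoidHom := h1 ▸ Subgroup.mem_top _
    simpa using this

/-- The standard involutions. -/
def IsStd (s : Co0) : Prop := s = eps ∨ s = negEl * eps ∨ s = epsD

theorem std_tight {s : Co0} (hs : IsStd s) : IsTight ↥(Subgroup.centralizer ({s} : Set Co0)) := by
  rcases hs with rfl | rfl | rfl
  · exact isTight_cEps
  · rw [centralizer_neg_eps]; exact isTight_cEps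
  · exact isTight_cDod

theorem card_cEps : Nat.card ↥cEps = 1024 * 174182400 := by
  have h := toO.ker.card_mul_index
  rw [Subgroup.index_ker, range_eq, card_ker, card_omega] at h
  exact h.symm

theorem std_card (s : Co0) (hs : IsStd s) :
    (s = epsD ∧ Nat.card ↥(Subgroup.centralizer ({s} : Set Co0)) = 4096 * 95040) ∨
      ((s = eps ∨ s = negEl * eps) ∧ Nat.card ↥(Subgroup.centralizer ({s} : Set Co0)) = 1024 * 174182400) := by
  rcases hs with rfl | rfl | rfl
  · exact Or.inr ⟨Or.inl rfl, card_cEps⟩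
  · exact Or.inr ⟨Or.inr rfl, by rw [centralizer_neg_eps]; exact card_cEps⟩
  · exact Or.inl ⟨rfl, card_cDod⟩

theorem std_no_swap {s s' : Co0} (hs : IsStd s) (hs' : IsStd s')
    (σ : ↥(Subgroup.centralizer ({s} : Set Co0)) ≃* ↥(Subgroup.centralizer ({s'} : Set Co0)))
    (h1 : ∀ x : ↥(Subgroup.centralizer ({s} : Set Co0)), (x : Co0) = s → (σ x : Co0) = negEl)
    (h2 : ∀ x : ↥(Subgroup.centralizer ({s} : Set Co0)), (x : Co0) = negEl → (σ x : Co0) = s') : False := by
  have hcard := Nat.card_congr σ.toEquiv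
  rcases std_card s hs with ⟨rfl, c⟩ | ⟨ho, c⟩ <;> rcases std_card s' hs' with ⟨e', c'⟩ | ⟨ho', c'⟩
  · subst e'
    exact no_twist_dod σ (Subtype.ext (h1 _ rfl))
  · rw [c, c'] at hcard; exact absurd hcard (by norm_num)
  · rw [c, c'] at hcard; exact absurd hcard (by norm_num)
  have e1 : Subgroup.centralizer ({s} : Set Co0) = cEps := by
    rcases ho with rfl | rfl
    · rfl
    · exact centralizer_neg_eps
  have e2 : Subgroup.centralizer ({s'} : Set Co0) = cEps := by
    rcases ho' with rfl | rfl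
    · rfl
    · exact centralizer_neg_eps
  let τ : ↥cEps ≃* ↥cEps :=
    (MulEquiv.subgroupCongr e1.symm).trans (σ.trans (MulEquiv.subgroupCongr e2))
  have t1 : ∀ x : ↥cEps, (x : Co0) = s → (τ x : Co0) = negEl := fun x hx => h1 (MulEquiv.subgroupCongr e1.symm x) hx
  have t2 : ∀ x : ↥cEps, (x : Co0) = negEl → (τ x : Co0) = s' := fun x hx => h2 (MulEquiv.subgroupCongr e1.symm x) hx
  have hW : ((elW : ↥cEps) : Co0) = negEl * eps := rfl
  rcases ho with rfl | rfl
  · rcases ho' with rfl | rfl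
    · exact no_twist τ (Subtype.ext (t1 _ rfl))
    · have h3 := congrArg Subtype.val (map_elW τ)
      rw [elW, map_mul, Subgroup.coe_mul, t1 (elS oSet oSet_mem) rfl, t2 (elS Finset.univ univ_mem) rfl] at h3
      rw [show (((elS Finset.univ univ_mem * elS oSet oSet_mem : ↥cEps)) : Co0) = negEl * eps from rfl,
        mul_eq_left] at h3
      exact negEl_ne h3
  · have h3 := congrArg Subtype.val (map_elW τ)
    rw [t1 elW hW, hW, left_eq_mul] at h3
    have h4 : (sgn oSet oSet_mem : Co0) = sgn ∅ empty_mem_codeSets := h3.trans mono_one.symm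
    obtain ⟨-, e⟩ := mono_ext (σ := 1) (τ := 1) (c := oSet) (d := ∅)
      fun v => congrArg (fun k : Co0 => ((k • v : leechLattice) : GolayPt → ℤ)) h4
    exact Finset.notMem_empty (none : GolayPt) (e ▸ none_mem)

theorem good_tight {t : Co0} (ht : t * t = 1) (h1 : t ≠ 1) (hz : t ≠ negEl) :
    IsTight ↥(Subgroup.centralizer ({t} : Set Co0)) := by
  obtain ⟨g, hg⟩ := involution_std ht h1 hz
  exact isTight_congr (centConj g rfl).symm (std_tight hg)

theorem no_swap {t t' : Co0} (ht : t * t = 1) (h1 : t ≠ 1) (hz : t ≠ negEl) (ht' : t' * t' = 1) (h1' : t' ≠ 1)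
    (hz' : t' ≠ negEl) (σ : ↥(Subgroup.centralizer ({t} : Set Co0)) ≃* ↥(Subgroup.centralizer ({t'} : Set Co0)))
    (a1 : ∀ x : ↥(Subgroup.centralizer ({t} : Set Co0)), (x : Co0) = t → (σ x : Co0) = negEl)
    (a2 : ∀ x : ↥(Subgroup.centralizer ({t} : Set Co0)), (x : Co0) = negEl → (σ x : Co0) = t') : False := by
  obtain ⟨g, hg⟩ := involution_std ht h1 hz
  obtain ⟨g', hg'⟩ := involution_std ht' h1' hz'
  refine std_no_swap hg hg' ((centConj g rfl).symm.trans (σ.trans (centConj g' rfl))) (fun x hx => ?_) fun x hx => ?_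
  · show g' * (σ ((centConj g rfl).symm x) : Co0) * g'⁻¹ = negEl
    rw [a1 _ (show g⁻¹ * (x : Co0) * g = t by rw [hx]; group), negEl_comm, mul_inv_cancel_right]
  · show g' * (σ ((centConj g rfl).symm x) : Co0) * g'⁻¹ = g' * t' * g'⁻¹
    rw [a2 _ (show g⁻¹ * (x : Co0) * g = negEl by rw [hx, negEl_comm g⁻¹, inv_mul_cancel_right])]

end Cfsg.Lib.StdCo0
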