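import Cfsg.Agent.Lib.StdCo0.Classes
import Cfsg.Agent.Lib.StdCo0.Tight
import Cfsg.Agent.Lib.CoOne.OctadExtra
import Cfsg.Agent.Lib.CoOne.OctadFitting

/-!
The centraliser of the sign change on an octad.
-/

set_option autoImplicit false
set_option maxRecDepth 20000
set_option synthInstance.maxSize 512

namespace Cfsg.Lib.StdCo0

open Cfsg Cfsg.Lib.Concrete Cfsg.Lib.CoOne Cfsg.Lib.Chev.D4Orth
open Cfsg.Lib.O8Two (QQ OGrp OmGrp)
open scoped Pointwise symmDiff commutatorElement

theorem eps_eq : eps = sgn oSet oSet_mem := rfl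

theorem sgn_mul {c d : Finset GolayPt} (hc : c ∈ codeSets) (hd : d ∈ codeSets) :
    sgn c hc * sgn d hd = sgn (c ∆ d) (symmDiff_mem_supports hc hd) := by
  rw [sgn, sgn, mono_prod _ _ hc hd (by rw [one_smul]; exact symmDiff_mem_supports hc hd)]
  exact mono_congr (one_mul 1) (by rw [one_smul]) _ _ _ _

theorem sgn_comm {c d : Finset GolayPt} (hc : c ∈ codeSets) (hd : d ∈ codeSets) :
    Commute (sgn c hc) (sgn d hd) := by
  rw [Commute, SemiconjBy, sgn_mul, sgn_mul]
  exact sgn_congr (symmDiff_comm c d) _ _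

theorem sgn_mem (c : Finset GolayPt) (hc : c ∈ codeSets) : sgn c hc ∈ cEps :=
  mem_cEps.2 (sgn_comm hc oSet_mem).eq

theorem perm_mem (k : M24) (hk : k.1 • oSet = oSet) : permHom k ∈ cEps := by
  refine mem_cEps.2 ?_
  have h := sgn_conj_perm k oSet_mem (by rw [hk]; exact oSet_mem)
  rw [sgn_congr hk _ oSet_mem, mul_inv_eq_iff_eq_mul] at h
  exact h

theorem mono_split {σ : Equiv.Perm GolayPt} (hσ : σ ∈ M24) {c : Finset GolayPt} (hc : c ∈ codeSets) :
    monoCo0 σ hσ c hc = sgn c hc * permHom ⟨σ, hσ⟩ := by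
  show _ = sgn c hc * monoCo0 σ hσ ∅ empty_mem_codeSets
  rw [sgn, mono_prod _ hσ hc empty_mem_codeSets
    (by rw [one_smul, ← Finset.bot_eq_empty, symmDiff_bot]; exact hc)]
  exact mono_congr (one_mul σ).symm (by rw [one_smul, ← Finset.bot_eq_empty, symmDiff_bot]) _ _ _ _

theorem sigA_oSet : sigA • oSet = oSet := by
  unfold oSet; decide +kernel

theorem sigB_oSet : sigB • oSet = oSet := by
  unfold oSet; decide +kernel

theorem fx_oSet (i : Fin 16) : fx i • oSet = oSet := by
  refine Finset.eq_of_subset_of_card_le (fun q hq => ?_) (Finset.card_smul_finset (fx i) oSet).ge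
  obtain ⟨p, hp, rfl⟩ := Finset.mem_smul_finset.1 hq
  show pFun (fP i) p ∈ oSet
  rw [(pFun_fix i p).2 hp]
  exact hp

/-- The first stabiliser generator in the group. -/
noncomputable def elA : ↥cEps := ⟨permHom ⟨sigA, sigA_mem⟩, perm_mem _ sigA_oSet⟩
/-- The second stabiliser generator in the group. -/
noncomputable def elB : ↥cEps := ⟨permHom ⟨sigB, sigB_mem⟩, perm_mem _ sigB_oSet⟩
/-- The pointwise stabiliser in the group. -/
noncomputable def elF (i : Fin 16) : ↥cEps := ⟨permHom ⟨fx i, fx_M24 i⟩, perm_mem _ (fx_oSet i)⟩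
/-- The sign changes in the group. -/
noncomputable def elS (c : Finset GolayPt) (hc : c ∈ codeSets) : ↥cEps := ⟨sgn c hc, sgn_mem c hc⟩

theorem elS_congr {a b : Finset GolayPt} (h : a = b) (ha : a ∈ codeSets) (hb : b ∈ codeSets) :
    elS a ha = elS b hb := by subst h; rfl

theorem commutator_mem (a b : ↥cEps) : a * b * a⁻¹ * b⁻¹ ∈ commutator ↥cEps :=
  Subgroup.commutator_mem_commutator (Subgroup.mem_top a) (Subgroup.mem_top b)

theorem moved_sgn (k : M24) (hk : k.1 • oSet = oSet) {D : Finset GolayPt} (hD : D ∈ codeSets) :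
    elS ((k.1 • D) ∆ D) (symmDiff_mem_supports (code_smul k.2 hD) hD) ∈ commutator ↥cEps := by
  have h := commutator_mem ⟨permHom k, perm_mem k hk⟩ (elS D hD)
  convert h using 1
  refine Subtype.ext ?_
  simp only [elS, Subgroup.coe_mul, InvMemClass.coe_inv]
  rw [sgn_conj_perm k hD (code_smul k.2 hD), inv_eq_of_mul_eq_one_right (sgn_sq hD), sgn_mul]

/-- Words spanning the code through the two generators. -/
def spanTab : List (ℕ × ℕ) :=
  [(13062145, 4441280), (13062145, 15135874), (13938692, 15176780), (0, 2531524), (13062145, 16020553),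
    (0, 9204992), (2854977, 4563017), (0, 951624), (13062145, 4223245), (13062145, 3031301),
    (13062145, 13062145), (13062145, 16638425)]

theorem span_check : ∀ j : Fin 12, isCode (spanTab.getD j (0, 0)).1 = true ∧
    (spanTab.getD j (0, 0)).1 < 16777216 ∧ isCode (spanTab.getD j (0, 0)).2 = true ∧
    (spanTab.getD j (0, 0)).2 < 16777216 ∧
    pimg stabA (spanTab.getD j (0, 0)).1 ^^^ (spanTab.getD j (0, 0)).1 ^^^
      (pimg stabB (spanTab.getD j (0, 0)).2 ^^^ (spanTab.getD j (0, 0)).2) = basisMasks.getD j 0 := by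
  decide +kernel

theorem sigA_rep' : Cfsg.Lib.Concrete.Rep sigA stabA := by unfold Cfsg.Lib.Concrete.Rep; decide +kernel

theorem sigB_rep' : Cfsg.Lib.Concrete.Rep sigB stabB := by unfold Cfsg.Lib.Concrete.Rep; decide +kernel

theorem sgn_mem_commutator {c : Finset GolayPt} (hc : c ∈ codeSets) : elS c hc ∈ commutator ↥cEps := by
  have hb : ∀ b ∈ basisMasks, ∀ h : mset b ∈ codeSets, elS (mset b) h ∈ commutator ↥cEps := by
    intro b hb h
    obtain ⟨j, hj, e⟩ := List.getElem_of_mem hb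
    have h12 : j < 12 := lt_of_lt_of_le hj (by decide +kernel)
    obtain ⟨c1, l1, c2, l2, he⟩ := span_check ⟨j, h12⟩
    rw [show basisMasks.getD (⟨j, h12⟩ : Fin 12) 0 = b by
      rw [List.getD_eq_getElem?_getD, List.getElem?_eq_getElem hj]; simp [e]] at he
    have m1 := (mset_mem_supports_iff l1).2 c1
    have m2 := (mset_mem_supports_iff l2).2 c2
    have := mul_mem (moved_sgn ⟨sigA, sigA_mem⟩ sigA_oSet m1) (moved_sgn ⟨sigB, sigB_mem⟩ sigB_oSet m2)
    convert this using 1
    refine Subtype.ext ?_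
    simp only [elS, Subgroup.coe_mul]
    rw [sgn_mul]
    refine sgn_congr ?_ _ _
    rw [sigA_rep'.smul_mset, sigB_rep'.smul_mset, ← mset_xor, ← mset_xor, ← mset_xor, he]
  have haux : ∀ L : List ℕ, (∀ b ∈ L, b ∈ basisMasks) → ∀ k, ∃ h : mset (comboAux L k) ∈ codeSets,
      elS _ h ∈ commutator ↥cEps := by
    intro L
    induction L with
    | nil =>
      intro _ k
      refine ⟨by rw [comboAux, mset_zero]; exact empty_mem_codeSets, ?_⟩
      convert one_mem (commutator ↥cEps)
      refine Subtype.ext ?_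
      simp only [elS, Subgroup.coe_one]
      rw [sgn, ← mono_one]
      exact mono_congr rfl (by rw [comboAux, mset_zero]) _ _ _ _
    | cons b L ih =>
      intro hL k
      obtain ⟨h, hm⟩ := ih (fun x hx => hL x (List.mem_cons_of_mem _ hx)) (k / 2)
      rw [comboAux]
      cases hk : (k % 2 == 1)
      · simp only [cond_false, Nat.zero_xor]
        exact ⟨h, hm⟩
      · have hbm := hL b List.mem_cons_self
        have hc' : mset b ∈ codeSets := by
          obtain ⟨c1, l1⟩ := List.all_eq_true.1 (show basisMasks.all (fun b => isCode b && decide (b < 16777216))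
            = true by decide +kernel) b hbm |> fun q => (by simpa using q : isCode b = true ∧ b < 16777216)
          exact (mset_mem_supports_iff l1).2 c1
        have hx : mset (b ^^^ comboAux L (k / 2)) ∈ codeSets := by
          rw [mset_xor]; exact symmDiff_mem_supports hc' h
        simp only [cond_true]
        refine ⟨hx, ?_⟩
        convert mul_mem (hb b hbm hc') hm using 1
        refine Subtype.ext ?_
        simp only [elS, Subgroup.coe_mul]
        rw [sgn_mul]
        exact sgn_congr (mset_xor _ _) _ _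
  obtain ⟨m, hm, rfl⟩ := mem_supports_iff.1 hc
  obtain ⟨k, -, e⟩ := List.mem_map.1 (codeList_eq ▸ hm)
  obtain ⟨h, hmem⟩ := haux basisMasks (fun _ h => h) k
  subst e
  exact hmem

/-- Commutators giving the pointwise stabiliser. -/
def fxTab : List (ℕ × ℕ) :=
  [(0, 0), (0, 12), (1, 1), (0, 5), (1, 0), (0, 2), (0, 1), (1, 12), (0, 6), (1, 6), (1, 3), (1, 7), (0, 7),
    (0, 3), (1, 5), (1, 2)]

theorem fx_check : ∀ i : Fin 16, ∀ x : GolayPt, pFun (fP i) x =
    pFun stabA (pFun (fP (Fin.ofNat 16 (fxTab.getD i (0, 0)).1)) (pFun stabAInv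
      (pFun (fP (Fin.ofNat 16 (fxTab.getD i (0, 0)).1))
        (pFun stabB (pFun (fP (Fin.ofNat 16 (fxTab.getD i (0, 0)).2)) (pFun stabBInv
          (pFun (fP (Fin.ofNat 16 (fxTab.getD i (0, 0)).2)) x))))))) := by
  decide +kernel

theorem elF_mem_commutator (i : Fin 16) : elF i ∈ commutator ↥cEps := by
  set a := Fin.ofNat 16 (fxTab.getD i (0, 0)).1
  set b := Fin.ofNat 16 (fxTab.getD i (0, 0)).2
  convert mul_mem (commutator_mem elA (elF a)) (commutator_mem elB (elF b)) using 1
  refine Subtype.ext ?_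
  show permHom ⟨fx i, fx_M24 i⟩ = permHom ⟨sigA, sigA_mem⟩ * permHom ⟨fx a, fx_M24 a⟩ *
      (permHom ⟨sigA, sigA_mem⟩)⁻¹ * (permHom ⟨fx a, fx_M24 a⟩)⁻¹ *
      (permHom ⟨sigB, sigB_mem⟩ * permHom ⟨fx b, fx_M24 b⟩ * (permHom ⟨sigB, sigB_mem⟩)⁻¹ *
        (permHom ⟨fx b, fx_M24 b⟩)⁻¹)
  simp only [← map_inv, ← map_mul]
  refine congrArg permHom (Subtype.ext (Equiv.ext fun x => ?_))
  exact fx_check i x

theorem center_mem : negEl ∈ cEps := center_le_cEps negEl_center

/-- The elements of the kernel. -/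
theorem ker_form {g : ↥cEps} (hg : g ∈ toO.ker) : ∃ i j, ∃ e : Bool,
    g = (bif e then elS Finset.univ univ_mem else 1) * elS (mset (oW j)) (oW_code j) * elF i := by
  obtain ⟨σ, hσ, c, hc, hflat, h⟩ := ker_shape hg
  have hM := (mem_fixSet.1 hσ).1
  obtain ⟨i, hi⟩ := exists_fx hσ
  subst hi
  have e0 : (g : Co0) = sgn c hc * permHom ⟨fx i, fx_M24 i⟩ := (mono_eq hM hc h).trans (mono_split hM hc)
  by_cases hn : (none : GolayPt) ∈ c
  · obtain ⟨j, hj⟩ := exists_oW (symmDiff_mem_supports univ_mem hc) fun p hp hpm => by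
      rw [Finset.mem_symmDiff] at hpm
      rcases hpm with ⟨-, a⟩ | ⟨-, a⟩
      · exact a ((hflat p hp).2 hn)
      · exact a (Finset.mem_univ p)
    refine ⟨i, j, true, Subtype.ext (e0.trans ?_)⟩
    simp only [elS, elF, Subgroup.coe_mul, cond_true]
    rw [sgn_mul]
    exact congrArg (· * _) (sgn_congr (by rw [hj, ← symmDiff_assoc, symmDiff_self, bot_symmDiff]) _ _)
  · obtain ⟨j, hj⟩ := exists_oW hc fun p hp hpc => hn ((hflat p hp).1 hpc)
    refine ⟨i, j, false, Subtype.ext (e0.trans ?_)⟩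
    simp only [elS, elF, Subgroup.coe_mul, cond_false, Subgroup.coe_one]
    rw [one_mul]
    exact congrArg (· * _) (sgn_congr hj.symm _ _)

theorem ker_le_commutator : toO.ker ≤ commutator ↥cEps := fun g hg => by
  obtain ⟨i, j, e, rfl⟩ := ker_form hg
  refine mul_mem (mul_mem ?_ (sgn_mem_commutator _)) (elF_mem_commutator i)
  cases e with
  | false => exact one_mem _
  | true => exact sgn_mem_commutator _

/-- The action with its exact range. -/
noncomputable def toOm : ↥cEps →* ↥OmGrp :=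
  toO.codRestrict OmGrp fun g => range_eq ▸ ⟨g, rfl⟩

theorem toOm_surjective : Function.Surjective toOm := fun x => by
  obtain ⟨g, hg⟩ := (range_eq.symm ▸ x.2 : x.1 ∈ toO.range)
  exact ⟨g, Subtype.ext hg⟩

theorem toOm_ker : toOm.ker = toO.ker := MonoidHom.ker_codRestrict _ _ _

theorem omega_noncomm : ∃ a b : ↥OmGrp, a * b ≠ b * a := by
  by_contra h
  push Not at h
  have h1 : Subgroup.center ↥OmGrp = ⊤ := eq_top_iff.2 fun a _ => Subgroup.mem_center_iff.2 fun b => h b a
  have h2 := O8Two.center_omega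
  rw [h1] at h2
  have := Subgroup.card_top (G := ↥OmGrp)
  rw [h2, Subgroup.card_bot, card_omega] at this
  exact absurd this (by norm_num)

theorem finite_cEps : Finite ↥cEps := by
  haveI : Finite Co0 := Nat.finite_of_card_ne_zero (by rw [card_Co0]; norm_num)
  infer_instance

theorem isTight_cEps : IsTight ↥cEps := by
  haveI := finite_cEps
  haveI := isSimple_omega
  refine isTight_of_ext toOm toOm_surjective (by rw [card_omega]; decide) ⟨10, ?_⟩ omega_noncomm ?_
  · rw [toOm_ker, card_ker]; rfl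
  · rw [toOm_ker]; exact ker_le_commutator

theorem map_kerO (σ : ↥cEps ≃* ↥cEps) {x : ↥cEps} (hx : x ∈ toO.ker) : σ x ∈ toO.ker := by
  haveI := finite_cEps
  haveI := isSimple_omega
  rw [← toOm_ker] at hx ⊢
  exact map_ker_le toOm toOm_surjective ⟨10, by rw [toOm_ker, card_ker]; rfl⟩ (m := 3)
    (by rw [card_omega]; norm_num) (by decide) (by norm_num) σ hx

/-- The product of the centre and the involution. -/
noncomputable def elW : ↥cEps := elS Finset.univ univ_mem * elS oSet oSet_mem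

theorem fx_commute : ∀ i k : Fin 16, ∀ x : GolayPt,
    pFun (fP i) (pFun (fP k) x) = pFun (fP k) (pFun (fP i) x) := by decide +kernel

theorem outMask_eq : sgn (mset outMask) outMask_code = (elW : Co0) := by
  simp only [elW, elS, Subgroup.coe_mul]
  rw [sgn_mul]
  exact sgn_congr outMask_set.1 _ _

theorem moved_cases (i : Fin 16) (j : Fin 32) :
    mset (oW j) ∆ (fx i • mset (oW j)) = ∅ ∨ mset (oW j) ∆ (fx i • mset (oW j)) = mset outMask := by
  rw [Rep.smul_mset (fx_rep i), ← mset_xor]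
  rcases sq_table i j with e | e
  · exact Or.inl (by rw [e, mset_zero])
  · exact Or.inr (by rw [e])

theorem elW_central_sign (e : Bool) (x : ↥cEps) :
    (bif e then elS Finset.univ univ_mem else 1) * x = x * (bif e then elS Finset.univ univ_mem else 1) := by
  cases e with
  | false => simp
  | true => exact Subtype.ext (Subgroup.mem_center_iff.1 negEl_center _).symm

/-- Commutators in the kernel. -/
theorem ker_commutator {x y : ↥cEps} (hx : x ∈ toO.ker) (hy : y ∈ toO.ker) :
    x * y * x⁻¹ * y⁻¹ = 1 ∨ x * y * x⁻¹ * y⁻¹ = elW := by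
  obtain ⟨i, j, e, rfl⟩ := ker_form hx
  obtain ⟨k, l, e', rfl⟩ := ker_form hy
  set a := elS (mset (oW j)) (oW_code j) * elF i
  set b := elS (mset (oW l)) (oW_code l) * elF k
  set s : ↥cEps := bif e then elS Finset.univ univ_mem else 1
  set s' : ↥cEps := bif e' then elS Finset.univ univ_mem else 1
  have hs : ∀ x, s * x = x * s := elW_central_sign e
  have hs' : ∀ x, s' * x = x * s' := elW_central_sign e'
  have h0 : (s * elS (mset (oW j)) (oW_code j) * elF i) * (s' * elS (mset (oW l)) (oW_code l) * elF k) *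
      (s * elS (mset (oW j)) (oW_code j) * elF i)⁻¹ * (s' * elS (mset (oW l)) (oW_code l) * elF k)⁻¹ =
      a * b * a⁻¹ * b⁻¹ := by
    rw [mul_assoc s, mul_assoc s']
    calc s * a * (s' * b) * (s * a)⁻¹ * (s' * b)⁻¹ = s * (a * s') * b * a⁻¹ * s⁻¹ * b⁻¹ * s'⁻¹ := by group
      _ = s * (s' * (a * b * a⁻¹)) * s⁻¹ * b⁻¹ * s'⁻¹ := by rw [← hs']; group
      _ = s' * (a * b * a⁻¹) * s * s⁻¹ * b⁻¹ * s'⁻¹ := by rw [hs]
      _ = s' * (a * b * a⁻¹ * b⁻¹) * s'⁻¹ := by group
      _ = a * b * a⁻¹ * b⁻¹ := by rw [hs']; group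
  rw [h0]
  set A := mset (oW j)
  set B := mset (oW l)
  set c := (A ∆ (fx k • A)) ∆ (B ∆ (fx i • B))
  have hca : A ∆ (fx i • B) ∈ codeSets := symmDiff_mem_supports (oW_code j) (code_smul (fx_M24 i) (oW_code l))
  have hcb : B ∆ (fx k • A) ∈ codeSets := symmDiff_mem_supports (oW_code l) (code_smul (fx_M24 k) (oW_code j))
  have hcc : c ∈ codeSets := symmDiff_mem_supports
    (symmDiff_mem_supports (oW_code j) (code_smul (fx_M24 k) (oW_code j)))
    (symmDiff_mem_supports (oW_code l) (code_smul (fx_M24 i) (oW_code l)))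
  have hab : a * b = elS c hcc * (b * a) := by
    refine Subtype.ext ?_
    show sgn A (oW_code j) * permHom ⟨fx i, fx_M24 i⟩ * (sgn B (oW_code l) * permHom ⟨fx k, fx_M24 k⟩) =
      sgn c hcc * (sgn B (oW_code l) * permHom ⟨fx k, fx_M24 k⟩ * (sgn A (oW_code j) * permHom ⟨fx i, fx_M24 i⟩))
    rw [← mono_split, ← mono_split, mono_prod (fx_M24 i) (fx_M24 k) (oW_code j) (oW_code l) hca,
      mono_prod (fx_M24 k) (fx_M24 i) (oW_code l) (oW_code j) hcb, sgn,
      mono_prod _ _ _ hcb (by rw [one_smul]; exact symmDiff_mem_supports hcc hcb)]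
    refine mono_congr ?_ ?_ _ _ _ _
    · rw [one_mul]; exact Equiv.ext (fx_commute i k)
    · rw [one_smul]
      ext p
      simp only [c, Finset.mem_symmDiff]
      tauto
  have hfin : a * b * a⁻¹ * b⁻¹ = elS c hcc := by rw [hab]; group
  rw [hfin]
  rcases moved_cases k j with h1 | h1 <;> rcases moved_cases i l with h2 | h2
  · left; refine Subtype.ext ?_
    show sgn c hcc = 1
    rw [sgn, ← mono_one]; exact mono_congr rfl (by simp only [c, A, B, h1, h2, symmDiff_self]; rfl) _ _ _ _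
  · right; refine Subtype.ext ?_
    rw [← outMask_eq]
    exact sgn_congr (by simp only [c, A, B, h1, h2, ← Finset.bot_eq_empty, bot_symmDiff]) hcc outMask_code
  · right; refine Subtype.ext ?_
    rw [← outMask_eq]
    exact sgn_congr (by simp only [c, A, B, h1, h2, ← Finset.bot_eq_empty, symmDiff_bot]) hcc outMask_code
  · left; refine Subtype.ext ?_
    show sgn c hcc = 1
    rw [sgn, ← mono_one]; exact mono_congr rfl (by simp only [c, A, B, h1, h2, symmDiff_self]; rfl) _ _ _ _

theorem elF_ker (i : Fin 16) : elF i ∈ toO.ker := by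
  have hfix : fx i ∈ fixSet oSet := mem_fixSet.2 ⟨fx_M24 i, fun x hx => (pFun_fix i x).2 hx⟩
  obtain ⟨h, hk⟩ := mono_ker hfix (c := ∅) ⟨empty_mem_codeSets, fun p _ => by simp⟩
  exact hk

theorem elS_ker (j : Fin 32) : elS (mset (oW j)) (oW_code j) ∈ toO.ker := by
  obtain ⟨h, hk⟩ := mono_ker (σ := 1) (one_mem _) (c := mset (oW j))
    ⟨oW_code j, fun p hp => iff_of_false (oW_out j hp) (oW_out j none_mem)⟩
  exact hk

theorem elW_ne : elW ≠ 1 := fun h => by
  have h1 : sgn (mset outMask) outMask_code = monoCo0 1 (one_mem _) ∅ empty_mem_codeSets := by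
    rw [outMask_eq, h, mono_one]; rfl
  obtain ⟨-, e⟩ := mono_ext (σ := 1) (τ := 1) (c := mset outMask) (d := ∅)
    fun v => congrArg (fun k : Co0 => ((k • v : leechLattice) : GolayPt → ℤ)) h1
  revert e
  decide +kernel

theorem witness_moved : pimg (fP 1) (oW 1) ≠ oW 1 ∨ pimg (fP 1) (oW 2) ≠ oW 2 ∨ pimg (fP 1) (oW 4) ≠ oW 4 ∨
    pimg (fP 2) (oW 1) ≠ oW 1 := by decide +kernel

theorem elW_commutator : ∃ x ∈ toO.ker, ∃ y ∈ toO.ker, x * y * x⁻¹ * y⁻¹ = elW := by
  obtain ⟨i, j, hne⟩ : ∃ i j, pimg (fP i) (oW j) ≠ oW j := by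
    rcases witness_moved with h | h | h | h <;> exact ⟨_, _, h⟩
  refine ⟨elF i, elF_ker i, elS _ (oW_code j), elS_ker j, ?_⟩
  refine Subtype.ext ?_
  show permHom ⟨fx i, fx_M24 i⟩ * sgn _ (oW_code j) * (permHom ⟨fx i, fx_M24 i⟩)⁻¹ * (sgn _ (oW_code j))⁻¹ = _
  rw [sgn_conj_perm _ (oW_code j) (code_smul (fx_M24 i) (oW_code j)), inv_eq_of_mul_eq_one_right (sgn_sq _),
    sgn_mul, ← outMask_eq]
  refine sgn_congr ?_ _ _
  show (fx i • mset (oW j)) ∆ mset (oW j) = _
  rw [Rep.smul_mset (fx_rep i), ← mset_xor]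
  rcases sq_table i j with e | e
  · exact absurd (Nat.xor_eq_zero_iff.1 e).symm hne
  · rw [Nat.xor_comm, e]

/-- Automorphisms fix the product of the centre and the involution. -/
theorem map_elW (σ : ↥cEps ≃* ↥cEps) : σ elW = elW := by
  obtain ⟨x, hx, y, hy, e⟩ := elW_commutator
  rcases ker_commutator (map_kerO σ hx) (map_kerO σ hy) with h | h
  · exfalso
    rw [← map_inv, ← map_inv, ← map_mul, ← map_mul, ← map_mul, e, MulEquiv.map_eq_one_iff] at h
    exact elW_ne h
  · rwa [← map_inv, ← map_inv, ← map_mul, ← map_mul, ← map_mul, e] at h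

end Cfsg.Lib.StdCo0
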