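import Cfsg.Agent.Lib.StdCo0.Octad
import Mathlib.LinearAlgebra.Matrix.NonsingularInverse

/-!
No automorphism of the centraliser of an octad involution exchanges it with minus one: the
representation on the sixteen coordinates outside the octad cannot be twisted.
-/

set_option autoImplicit false
set_option maxRecDepth 20000
set_option synthInstance.maxSize 512

namespace Cfsg.Lib.StdCo0

open Cfsg Cfsg.Lib.Concrete Cfsg.Lib.CoOne
open scoped Pointwise symmDiff Matrix

/-- The points outside the octad. -/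
abbrev OutPt : Type := {p : GolayPt // p ∉ oSet}

theorem off_zero {g : Co0} (hg : g ∈ cEps) {p q : GolayPt} (hp : p ∉ oSet) (hq : q ∈ oSet) :
    ((g • e8 p : leechLattice) : GolayPt → ℤ) q = 0 := by
  have hfix : eps • e8 p = e8 p := Subtype.ext (funext fun r => by
    rw [eps_smul]
    split
    · rename_i hr
      simp [e8, Pi.single_eq_of_ne (show r ≠ p from fun e => hp (e ▸ hr))]
    · rfl)
  have h : eps • (g • e8 p) = g • e8 p := by rw [← mul_smul, ← mem_cEps.1 hg, mul_smul, hfix]
  have := congrFun (congrArg Subtype.val h) q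
  rw [eps_smul, if_pos hq] at this
  omega

/-- The action outside the octad modulo thirteen. -/
noncomputable def outMat (g : Co0) : Matrix OutPt OutPt (ZMod 13) :=
  Matrix.of fun r c => 5 * ((((g • e8 c.1 : leechLattice) : GolayPt → ℤ) r.1 : ℤ) : ZMod 13)

theorem sum_out (f : GolayPt → ZMod 13) (h : ∀ p ∈ oSet, f p = 0) : ∑ x : OutPt, f x.1 = ∑ x, f x := by
  rw [← Finset.sum_subtype (Finset.univ.filter fun p => p ∉ oSet) (fun p => by simp) f]
  exact Finset.sum_subset (Finset.subset_univ _) fun p _ hp => h p (by simpa using hp)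

theorem outMat_mul (g : Co0) {h : Co0} (hh : h ∈ cEps) : outMat (g * h) = outMat g * outMat h := by
  ext r c
  set a := ((h • e8 c.1 : leechLattice) : GolayPt → ℤ)
  have h8 : g • ((8 : ℤ) • (h • e8 c.1)) = g • ∑ x, a x • e8 x := by rw [sum_smul_e8]
  rw [co0_zsmul, co0_sum, ← mul_smul] at h8
  have h9 := congrArg (fun v : leechLattice => (((v : GolayPt → ℤ) r.1 : ℤ) : ZMod 13)) h8
  simp only [AddSubgroup.coe_zsmul, AddSubgroup.val_finsetSum, Pi.smul_apply, Finset.sum_apply, co0_zsmul,
    smul_eq_mul, Int.cast_mul, Int.cast_sum] at h9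
  rw [Matrix.mul_apply]
  simp only [outMat, Matrix.of_apply]
  rw [sum_out (fun x => 5 * ((((g • e8 x : leechLattice) : GolayPt → ℤ) r.1 : ℤ) : ZMod 13) *
      (5 * ((((h • e8 c.1 : leechLattice) : GolayPt → ℤ) x : ℤ) : ZMod 13)))
    (fun p hp => by rw [off_zero hh c.2 hp]; simp)]
  have e : ∀ x : ZMod 13, 5 * x = 25 * (8 * x) := by decide
  rw [e, show (8 : ZMod 13) = ((8 : ℤ) : ZMod 13) by norm_num, h9, Finset.mul_sum]
  exact Finset.sum_congr rfl fun x _ => by ring

theorem outMat_sgn {c : Finset GolayPt} (hc : c ∈ codeSets) :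
    outMat (sgn c hc) = Matrix.diagonal fun p => if p.1 ∈ c then -1 else 1 := by
  ext r s
  simp only [outMat, Matrix.of_apply, Matrix.diagonal_apply, sgn, monoCo0_smul, signedPerm_one]
  rw [show ((e8 s.1 : leechLattice) : GolayPt → ℤ) = Pi.single s.1 8 from rfl]
  by_cases h : r = s
  · subst h
    by_cases hr : r.1 ∈ c <;> simp [hr] <;> decide
  · have h' : r.1 ≠ s.1 := fun e => h (Subtype.ext e)
    by_cases hr : r.1 ∈ c <;> simp [hr, h, Pi.single_eq_of_ne h']

theorem outMat_one : outMat 1 = 1 := by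
  rw [← mono_one, ← sgn, outMat_sgn, ← Matrix.diagonal_one]
  simp

/-- The representation. -/
noncomputable def outRep : ↥cEps →* Matrix OutPt OutPt (ZMod 13) where
  toFun g := outMat g.1
  map_one' := outMat_one
  map_mul' g h := outMat_mul g.1 h.2

theorem outRep_sgn {c : Finset GolayPt} (hc : c ∈ codeSets) :
    outRep (elS c hc) = Matrix.diagonal fun p => if p.1 ∈ c then -1 else 1 := outMat_sgn hc

theorem outRep_elF (i : Fin 16) (r s : OutPt) : outRep (elF i) r s = if fx i s.1 = r.1 then 1 else 0 := by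
  show 5 * ((signedPerm (fx i) ∅ (Pi.single s.1 8) r.1 : ℤ) : ZMod 13) = _
  rw [signedPerm_single, if_neg (Finset.notMem_empty _), Pi.single_apply]
  by_cases h : fx i s.1 = r.1
  · rw [if_pos h.symm, if_pos h]; decide
  · rw [if_neg (Ne.symm h), if_neg h]; simp

theorem outRep_negEl : outRep (elS Finset.univ univ_mem) = -1 := by
  rw [outRep_sgn, ← Matrix.diagonal_one, Matrix.diagonal_neg]
  simp

theorem outRep_eps : outRep (elS oSet oSet_mem) = 1 := by
  rw [outRep_sgn, ← Matrix.diagonal_one]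
  exact congrArg Matrix.diagonal (funext fun p => if_neg p.2)

theorem outRep_elW : outRep elW = -1 := by rw [elW, map_mul, outRep_negEl, outRep_eps, mul_one]

/-- The elements fixing the octad sublattice. -/
noncomputable def fixE : Subgroup ↥cEps where
  carrier := {g | ∀ v ∈ oSub, (g : Co0) • v = v}
  one_mem' v _ := one_smul _ v
  mul_mem' {g h} hg hh v hv := by rw [Subgroup.coe_mul, mul_smul, hh v hv, hg v hv]
  inv_mem' {g} hg v hv := by rw [Subgroup.coe_inv, inv_smul_eq_iff, hg v hv]

theorem fixE_normal : fixE.Normal := ⟨fun x hx g v hv => by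
  rw [Subgroup.coe_mul, Subgroup.coe_mul, mul_smul, mul_smul, InvMemClass.coe_inv,
    hx _ (smul_supp (inv_mem g.2) hv), smul_inv_smul]⟩

theorem fixE_le {x : ↥cEps} (hx : x ∈ fixE) : x ∈ toO.ker := mem_ker_iff.2 fun v hv => by rw [hx v hv]

theorem elS_fixE {c : Finset GolayPt} (hc : c ∈ codeSets) (h : ∀ p ∈ oSet, p ∉ c) : elS c hc ∈ fixE :=
  fun v hv => Subtype.ext (funext fun p => by
    show signedPerm 1 c v p = _
    rw [signedPerm_one]
    by_cases hp : p ∈ oSet
    · rw [if_neg (h p hp)]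
    · rw [hv p hp]; simp)

theorem elF_fixE (i : Fin 16) : elF i ∈ fixE := fun v hv => Subtype.ext (funext fun p => by
  show signedPerm (fx i) ∅ v p = _
  simp only [signedPerm, Finset.notMem_empty, if_false]
  show (v : GolayPt → ℤ) (pFun (fP i) p) = _
  by_cases hp : p ∈ oSet
  · rw [(pFun_fix i p).2 hp]
  · have : pFun (fP i) p ∉ oSet := fun h => hp (by
      have := (pFun_fix i p).1
      rw [(pFun_fix i _).2 h] at this
      exact this ▸ h)
    rw [hv p hp, hv _ this])

theorem elW_fixE : elW ∈ fixE := by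
  have : elW = elS (mset outMask) outMask_code := Subtype.ext outMask_eq.symm
  rw [this]
  refine elS_fixE _ fun p hp h => ?_
  rw [outMask_set.1, Finset.mem_symmDiff] at h
  exact h.elim (fun h => h.2 hp) (fun h => h.2 (Finset.mem_univ p))

theorem sep_table : ∀ p q : OutPt, p ≠ q →
    (∃ j : Fin 32, p.1 ∈ mset (oW j) ∧ q.1 ∉ mset (oW j)) ∧
    ∑ j : Fin 32, (if p.1 ∈ mset (oW j) then (-1 : ZMod 13) else 1) * (if q.1 ∈ mset (oW j) then -1 else 1) = 0 := by
  decide +kernel

theorem trans_table : ∀ p q : OutPt, ∃ i : Fin 16, pFun (fP i) p.1 = q.1 := by decide +kernel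

theorem scalar_of_commute (M : Matrix OutPt OutPt (ZMod 13)) (h : ∀ f ∈ fixE, M * outRep f = outRep f * M) :
    ∃ a : ZMod 13, M = a • 1 := by
  have hS : ∀ j : Fin 32, elS (mset (oW j)) (oW_code j) ∈ fixE := fun j => elS_fixE _ fun p hp => oW_out j hp
  have hoff : ∀ p q, p ≠ q → M p q = 0 := fun p q hpq => by
    obtain ⟨⟨j, hp, hq⟩, -⟩ := sep_table p q hpq
    have := congrFun (congrFun (h _ (hS j)) p) q
    rw [outRep_sgn, Matrix.mul_diagonal, Matrix.diagonal_mul, if_pos hp, if_neg hq, mul_one, neg_mul, one_mul] at this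
    exact (show ∀ x : ZMod 13, x = -x → x = 0 by decide) _ this
  have hdiag : ∀ p q, M p p = M q q := fun p q => by
    obtain ⟨i, hi⟩ := trans_table p q
    have := congrFun (congrFun (h _ (elF_fixE i)) q) p
    rw [Matrix.mul_apply, Matrix.mul_apply, Finset.sum_eq_single q, Finset.sum_eq_single p] at this
    · rw [outRep_elF, if_pos (show fx i p.1 = q.1 from hi), mul_one, one_mul] at this
      exact this.symm
    · intro b _ hb; rw [hoff b p hb, mul_zero]
    · simp
    · intro b _ hb; rw [hoff q b (Ne.symm hb), zero_mul]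
    · simp
  obtain ⟨p₀⟩ : Nonempty OutPt := ⟨⟨gpt 4, by decide +kernel⟩⟩
  refine ⟨M p₀ p₀, Matrix.ext fun p q => ?_⟩
  by_cases e : p = q
  · subst e; simp [hdiag p p₀]
  · simp [hoff p q e, e]

theorem mono_split_inj {σ τ : Equiv.Perm GolayPt} (hσ : σ ∈ M24) (hτ : τ ∈ M24) {c d : Finset GolayPt}
    (hc : c ∈ codeSets) (hd : d ∈ codeSets)
    (h : sgn c hc * permHom ⟨σ, hσ⟩ = sgn d hd * permHom ⟨τ, hτ⟩) : σ = τ ∧ c = d := by
  rw [← mono_split, ← mono_split] at h
  exact mono_ext fun v => congrArg (fun k : Co0 => ((k • v : leechLattice) : GolayPt → ℤ)) h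

theorem fixE_noncentral {x : ↥cEps} (hx : x ∈ fixE) (h1 : x ≠ 1) (hw : x ≠ elW) :
    ∃ f ∈ fixE, f * x * f⁻¹ = elW * x := by
  suffices h : ∃ f ∈ fixE, f * x ≠ x * f by
    obtain ⟨f, hf, hne⟩ := h
    refine ⟨f, hf, ?_⟩
    rcases ker_commutator (fixE_le hf) (fixE_le hx) with e | e
    · exact absurd (mul_inv_eq_iff_eq_mul.1 (mul_inv_eq_one.1 e)) hne
    · rw [← e, inv_mul_cancel_right]
  by_contra hall
  push Not at hall
  obtain ⟨i, j, e, hxe⟩ := ker_form (fixE_le hx)
  cases e with
  | true =>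
    exfalso
    have hv := congrArg Subtype.val (hx top top_supp)
    rw [hxe] at hv
    have := congrFun hv none
    simp only [cond_true, elS, elF, Subgroup.coe_mul] at this
    rw [mul_assoc, mul_smul, ← negEl_eq, negEl_smul, AddSubgroup.coe_neg, Pi.neg_apply, ← mono_split, monoCo0_smul] at this
    simp only [signedPerm, if_neg (oW_out j none_mem)] at this
    have hs : (fx i).symm none = none := by
      rw [Equiv.symm_apply_eq]; exact ((pFun_fix i none).2 none_mem).symm
    rw [hs] at this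
    have h8 : ((top : leechLattice) : GolayPt → ℤ) none = 8 := by
      show (Pi.single none 8 : GolayPt → ℤ) none = 8
      simp
    omega
  | false =>
    simp only [cond_false, one_mul] at hxe
    rcases out_moved i with hi | ⟨j', hne, hlt⟩
    · rcases fix_moved j with e0 | e0 | ⟨i', hne, hlt⟩
      · refine h1 (hxe.trans (Subtype.ext ?_))
        simp only [elS, elF, Subgroup.coe_mul, Subgroup.coe_one]
        rw [← mono_split, ← mono_one]
        exact mono_congr (Equiv.ext hi) (by rw [e0, mset_zero]) _ _ _ _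
      · refine hw (hxe.trans (Subtype.ext ?_))
        simp only [elS, elF, Subgroup.coe_mul]
        rw [← mono_split, ← outMask_eq, sgn]
        exact mono_congr (Equiv.ext hi) (by rw [e0]) _ _ _ _
      · have hh := congrArg Subtype.val (hall _ (elF_fixE i'))
        rw [hxe] at hh
        simp only [elS, elF, Subgroup.coe_mul] at hh
        have hσ : fx i = 1 := Equiv.ext hi
        rw [show (⟨fx i, fx_M24 i⟩ : M24) = 1 from Subtype.ext hσ, map_one, mul_one] at hh
        have hc := sgn_conj_perm ⟨fx i', fx_M24 i'⟩ (oW_code j) (code_smul (fx_M24 i') (oW_code j))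
        rw [hh, mul_inv_cancel_right] at hc
        obtain ⟨-, e⟩ := mono_ext (σ := 1) (τ := 1) (c := mset (oW j)) (d := fx i' • mset (oW j))
          fun v => congrArg (fun k : Co0 => ((k • v : leechLattice) : GolayPt → ℤ)) hc
        rw [Rep.smul_mset (fx_rep i')] at e
        exact hne (mset_inj hlt (oW_check j).2.1 e.symm)
    · have hh := congrArg Subtype.val (hall _ (elS_fixE (oW_code j') fun p hp => oW_out j' hp))
      rw [hxe] at hh
      simp only [elS, elF, Subgroup.coe_mul] at hh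
      have hc := sgn_conj_perm ⟨fx i, fx_M24 i⟩ (oW_code j') (code_smul (fx_M24 i) (oW_code j'))
      rw [← mul_assoc, (sgn_comm (oW_code j') (oW_code j)).eq, mul_assoc, mul_assoc, mul_right_inj] at hh
      rw [← hh, mul_inv_cancel_right] at hc
      obtain ⟨-, e⟩ := mono_ext (σ := 1) (τ := 1) (c := mset (oW j')) (d := fx i • mset (oW j'))
        fun v => congrArg (fun k : Co0 => ((k • v : leechLattice) : GolayPt → ℤ)) hc
      rw [Rep.smul_mset (fx_rep i)] at e
      exact hne (mset_inj hlt (oW_check j').2.1 e.symm)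

theorem entry_single {n : Type*} [Fintype n] [DecidableEq n] {R : Type*} [CommRing R] (A B : Matrix n n R) (p q : n) :
    (A * Matrix.single p q (1 : R) * B : Matrix n n R) p q = A p p * B q q := by
  rw [Matrix.mul_apply, Finset.sum_eq_single q (fun b _ hb => by rw [Matrix.mul_single_apply_of_ne _ _ _ _ _ hb, zero_mul])
    (by simp), Matrix.mul_single_apply_same, mul_one]

theorem trace_zero (φ : ↥cEps →* Matrix OutPt OutPt (ZMod 13)) (hφ : φ elW = -1) {x : ↥cEps} (hx : x ∈ fixE)
    (h1 : x ≠ 1) (hw : x ≠ elW) : Matrix.trace (φ x) = 0 := by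
  have htr0 : ∀ (φ : ↥cEps →* Matrix OutPt OutPt (ZMod 13)), φ elW = -1 → ∀ x ∈ fixE, x ≠ 1 → x ≠ elW →
      Matrix.trace (φ x) = 0 := by
    intro φ hφ x hx h1 hw
    obtain ⟨f, -, hf⟩ := fixE_noncentral hx h1 hw
    have h1 : Matrix.trace (φ (f * x * f⁻¹)) = Matrix.trace (φ x) := by
      rw [map_mul, Matrix.trace_mul_comm, ← map_mul, ← mul_assoc, inv_mul_cancel, one_mul]
    rw [hf, map_mul, hφ, neg_one_mul, Matrix.trace_neg] at h1
    exact (show ∀ a : ZMod 13, -a = a → a = 0 by decide) _ h1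
  exact htr0 φ hφ x hx h1 hw

theorem exists_intertwiner (ρ : ↥cEps →* Matrix OutPt OutPt (ZMod 13)) (hρW : ρ elW = -1) :
    ∃ T, (∀ f ∈ fixE, ρ f * T = T * outRep f) ∧ T ≠ 0 := by
  classical
  haveI := finite_cEps
  haveI : Fintype ↥fixE := Fintype.ofFinite _
  set χ := outRep with hχ
  let avg : Matrix OutPt OutPt (ZMod 13) → Matrix OutPt OutPt (ZMod 13) := fun X =>
    ∑ e : ↥fixE, ρ e.1 * X * χ (e.1)⁻¹
  have hinter : ∀ X, ∀ f ∈ fixE, ρ f * avg X = avg X * χ f := fun X f hf => by
    simp only [avg, Finset.mul_sum, Finset.sum_mul]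
    refine (Equiv.sum_comp (Equiv.mulLeft (⟨f, hf⟩ : ↥fixE))
      (fun e : ↥fixE => ρ e.1 * X * χ (e.1)⁻¹ * χ f)).symm.trans ?_ |>.symm
    refine Finset.sum_congr rfl fun e _ => ?_
    simp only [Equiv.coe_mulLeft, Subgroup.coe_mul]
    calc ρ (f * e.1) * X * χ (f * e.1)⁻¹ * χ f = ρ (f * e.1) * X * (χ (f * e.1)⁻¹ * χ f) := by
          rw [Matrix.mul_assoc _ (χ (f * e.1)⁻¹)]
      _ = ρ f * ρ e.1 * X * χ (e.1)⁻¹ := by
          rw [← map_mul χ, map_mul ρ, mul_inv_rev, inv_mul_cancel_right]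
      _ = ρ f * (ρ e.1 * X * χ (e.1)⁻¹) := by simp only [Matrix.mul_assoc]
  obtain ⟨T, hT, hT0⟩ : ∃ T, (∀ f ∈ fixE, ρ f * T = T * χ f) ∧ T ≠ 0 := by
    by_contra hno
    push Not at hno
    have hz : ∀ X, avg X = 0 := fun X => hno _ (hinter X)
    have hsum : ∑ e : ↥fixE, Matrix.trace (ρ e.1) * Matrix.trace (χ (e.1)⁻¹) = 0 := by
      simp only [Matrix.trace, Matrix.diag_apply, Finset.sum_mul, Finset.mul_sum]
      rw [Finset.sum_comm]
      refine Finset.sum_eq_zero fun p _ => ?_
      rw [Finset.sum_comm]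
      refine Finset.sum_eq_zero fun q _ => ?_
      have := congrFun (congrFun (hz (Matrix.single q p 1)) q) p
      simp only [avg, Matrix.sum_apply, entry_single, Matrix.zero_apply] at this
      exact this
    set w : ↥fixE := ⟨elW, elW_fixE⟩
    have hw1 : w ≠ 1 := fun e => elW_ne (congrArg Subtype.val e)
    rw [← Finset.sum_subset (Finset.subset_univ ({1, w} : Finset ↥fixE)) (fun x _ hx => by
      rw [trace_zero ρ hρW x.2 (fun e => hx (by simp [show x = 1 from Subtype.ext e]))
        (fun e => hx (by simp [show x = w from Subtype.ext e])), zero_mul]), Finset.sum_pair hw1.symm] at hsum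
    have hinv : (elW : ↥cEps)⁻¹ = elW := by
      refine inv_eq_of_mul_eq_one_right (Subtype.ext ?_)
      show (elW : Co0) * elW = 1
      rw [← outMask_eq, sgn_sq]
    simp only [Subgroup.coe_one, map_one, inv_one, w, hinv, hρW, hχ, outRep_elW, Matrix.trace_neg, Matrix.trace_one,
      show Fintype.card OutPt = 16 by decide +kernel] at hsum
    exact absurd hsum (by decide)
  exact ⟨T, hT, hT0⟩

theorem intertwiner_isUnit (ρ : ↥cEps →* Matrix OutPt OutPt (ZMod 13)) {T : Matrix OutPt OutPt (ZMod 13)}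
    (hT : ∀ f ∈ fixE, ρ f * T = T * outRep f) (hT0 : T ≠ 0) : IsUnit T := by
  classical
  set χ := outRep with hχ
  have hinj : ∀ v, T *ᵥ v = 0 → v = 0 := by
    intro v hv
    by_contra hne
    obtain ⟨p, hp⟩ := Function.ne_iff.1 hne
    have hK : ∀ f ∈ fixE, ∀ u, T *ᵥ u = 0 → T *ᵥ (χ f *ᵥ u) = 0 := fun f hf u hu => by
      rw [Matrix.mulVec_mulVec, ← hT f hf, ← Matrix.mulVec_mulVec, hu, Matrix.mulVec_zero]
    have hsgl : T *ᵥ Pi.single p (32 * v p) = 0 := by
      have e : Pi.single p (32 * v p) = ∑ j : Fin 32, (if p.1 ∈ mset (oW j) then (-1 : ZMod 13) else 1) •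
          (χ (elS (mset (oW j)) (oW_code j)) *ᵥ v) := by
        funext r
        rw [Finset.sum_apply]
        simp only [hχ, outRep_sgn, Pi.smul_apply, smul_eq_mul, Matrix.mulVec_diagonal, ← mul_assoc, ← Finset.sum_mul]
        by_cases hr : r = p
        · subst hr
          rw [Pi.single_eq_same]
          have : ∀ j : Fin 32, ((if r.1 ∈ mset (oW j) then (-1 : ZMod 13) else 1) *
              if r.1 ∈ mset (oW j) then -1 else 1) = 1 := fun j => by split <;> simp
          simp only [this, Finset.sum_const, Finset.card_univ, Fintype.card_fin, nsmul_eq_mul, mul_one]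
          norm_num
        · rw [Pi.single_eq_of_ne hr, (sep_table p r (Ne.symm hr)).2, zero_mul]
      rw [e, Matrix.mulVec_sum]
      exact Finset.sum_eq_zero fun j _ => by
        rw [Matrix.mulVec_smul, hK _ (elS_fixE _ fun q hq => oW_out j hq) v hv, smul_zero]
    apply hT0
    ext r q
    rw [Matrix.zero_apply]
    obtain ⟨i, hi⟩ := trans_table p q
    have e2 : χ (elF i) *ᵥ Pi.single p (32 * v p) = Pi.single q (32 * v p) := by
      funext s
      rw [Matrix.mulVec_single, hχ]
      simp only [Pi.smul_apply, Matrix.col_apply, outRep_elF, Pi.single_apply]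
      rw [show fx i p.1 = q.1 from hi]
      by_cases hs : s = q
      · subst hs; simp
      · simp [hs, show q.1 ≠ s.1 from fun e => hs (Subtype.ext e.symm)]
    have h3 := congrFun (hK _ (elF_fixE i) _ hsgl) r
    rw [e2, Matrix.mulVec_single, Pi.smul_apply, Matrix.col_apply] at h3
    rw [op_smul_eq_mul] at h3
    have h32 : ∀ a b : ZMod 13, b ≠ 0 → a * (32 * b) = 0 → a = 0 := by decide
    exact h32 _ _ hp h3
  haveI : Fact (Nat.Prime 13) := ⟨by norm_num⟩
  have hi : Function.Injective T.mulVec := fun u v h => sub_eq_zero.1 (hinj _ (by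
    rw [Matrix.mulVec_sub, h, sub_self]))
  have hu : IsUnit T := (Matrix.mulVec_injective_iff_isUnit (K := ZMod 13)).1 hi
  exact hu

theorem intertwiner_scalar (ρ : ↥cEps →* Matrix OutPt OutPt (ZMod 13)) (U : (Matrix OutPt OutPt (ZMod 13))ˣ)
    (hT : ∀ f ∈ fixE, ρ f * (U : Matrix OutPt OutPt (ZMod 13)) = (U : Matrix OutPt OutPt (ZMod 13)) * outRep f) :
    ∀ k : ↥cEps, ∃ a : ZMod 13, (↑U⁻¹ : Matrix OutPt OutPt (ZMod 13)) * ρ k * (U : Matrix OutPt OutPt (ZMod 13)) = a • outRep k := by
  classical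
  set χ := outRep with hχ
  set V : Matrix OutPt OutPt (ZMod 13) := ↑U⁻¹ with hV
  set W : Matrix OutPt OutPt (ZMod 13) := ↑U with hW
  have hscal : ∀ k : ↥cEps, ∃ a : ZMod 13, V * ρ k * W = a • χ k := by
    intro k
    obtain ⟨a, ha⟩ := scalar_of_commute (χ k⁻¹ * (V * ρ k * W)) fun f hf => by
      have hf' : k * f * k⁻¹ ∈ fixE := fixE_normal.conj_mem f hf k
      have e1 : V * ρ (k * f * k⁻¹) = χ (k * f * k⁻¹) * V := by
        rw [hV, Units.eq_mul_inv_iff_mul_eq, ← hW, ← hV, Matrix.mul_assoc, hT _ hf', ← Matrix.mul_assoc, hV, hW, Units.inv_mul, Matrix.one_mul]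
      calc χ k⁻¹ * (V * ρ k * W) * χ f = χ k⁻¹ * (V * ρ k * (W * χ f)) := by simp only [Matrix.mul_assoc]
        _ = χ k⁻¹ * (V * (ρ k * ρ f) * W) := by rw [← hT f hf]; simp only [Matrix.mul_assoc]
        _ = χ k⁻¹ * ((V * ρ (k * f * k⁻¹)) * ρ k * W) := by
            rw [← map_mul ρ k f, Matrix.mul_assoc V (ρ (k * f * k⁻¹)), ← map_mul ρ,
              inv_mul_cancel_right]
        _ = (χ k⁻¹ * χ (k * f * k⁻¹)) * (V * ρ k * W) := by rw [e1]; simp only [Matrix.mul_assoc]
        _ = χ f * (χ k⁻¹ * (V * ρ k * W)) := by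
            rw [← map_mul χ, show k⁻¹ * (k * f * k⁻¹) = f * k⁻¹ by group, map_mul, Matrix.mul_assoc]
    refine ⟨a, ?_⟩
    have := congrArg (χ k * ·) ha
    simp only [← Matrix.mul_assoc, ← map_mul, mul_inv_cancel, map_one, Matrix.one_mul, Matrix.mul_smul,
      Matrix.mul_one] at this
    exact this
  exact hscal

/-- An automorphism cannot exchange the involution with minus one. -/
theorem no_twist (σ : ↥cEps ≃* ↥cEps) (h : σ (elS oSet oSet_mem) = elS Finset.univ univ_mem) : False := by
  classical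
  set χ := outRep with hχ
  set ρ : ↥cEps →* Matrix OutPt OutPt (ZMod 13) := outRep.comp σ.toMonoidHom with hρ
  have hρW : ρ elW = -1 := by
    show outRep (σ elW) = -1
    rw [map_elW, outRep_elW]
  obtain ⟨T, hT, hT0⟩ := exists_intertwiner ρ hρW
  obtain ⟨U, rfl⟩ := intertwiner_isUnit ρ hT hT0
  have hscal := intertwiner_scalar ρ U hT
  choose lam hlam using hscal
  obtain ⟨p₀⟩ : Nonempty OutPt := ⟨⟨gpt 4, by decide +kernel⟩⟩
  have huniq : ∀ (k : ↥cEps) (a b : ZMod 13), a • χ k = b • χ k → a = b := fun k a b e => by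
    have h1 := congrArg (· * χ k⁻¹) e
    simp only [Matrix.smul_mul, ← map_mul, mul_inv_cancel, map_one] at h1
    simpa using congrFun (congrFun h1 p₀) p₀
  let L : ↥cEps →* ZMod 13 :=
    { toFun := lam
      map_one' := huniq 1 _ _ (by rw [← hlam, map_one, Matrix.mul_one, Units.inv_mul, map_one, one_smul])
      map_mul' := fun k l => huniq (k * l) _ _ (by
        rw [← hlam, map_mul, map_mul, ← smul_smul, ← Matrix.mul_smul (χ k) (lam l), ← Matrix.smul_mul, ← hlam, ← hlam]
        simp only [Matrix.mul_assoc, Units.mul_inv_cancel_left]) }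
  have hker : L.toHomUnits.ker = ⊤ := top_le_iff.1 (isTight_cEps.1 ▸ Abelianization.commutator_subset_ker L.toHomUnits)
  have hL : L (elS oSet oSet_mem) = 1 := by
    have h1 : L.toHomUnits (elS oSet oSet_mem) = 1 := MonoidHom.mem_ker.1 (hker ▸ Subgroup.mem_top _)
    exact congrArg Units.val h1
  have hρu : ρ (elS oSet oSet_mem) = -1 := by
    show outRep (σ (elS oSet oSet_mem)) = -1
    rw [h, outRep_negEl]
  have := hlam (elS oSet oSet_mem)
  rw [show lam (elS oSet oSet_mem) = 1 from hL, hρu, outRep_eps, one_smul, mul_neg, mul_one, neg_mul,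
    Units.inv_mul] at this
  exact absurd (congrFun (congrFun this p₀) p₀) (by simp; decide)

end Cfsg.Lib.StdCo0
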